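import Cfsg.Agent.Lib.PrimeDegTI.Fusion
import Cfsg.Agent.Lib.BSW.Coeff
import Cfsg.Agent.Lib.Char.Counting

/-!
# The irreducible characters on a TI complement of odd order

Apart from the trivial character and the one of degree `p`, the characters which do not vanish on
`E \ {1}` have degree `p + 1`.
-/

set_option autoImplicit false
set_option linter.unusedSectionVars false
set_option linter.style.haveILetI false

open scoped Classical

namespace CfsgLib.PrimeDegTI

open Cfsg CfsgLib CfsgLib.Char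
open scoped ComplexConjugate

universe u

variable {G : Type u} [Group G] [Fintype G] {p : ℕ} [Fact p.Prime]

/-- The family of characters of degree `p + 1`. -/
structure Fam (P : Sylow p G) (E : Subgroup G) (St : IrrCharacter G)
    (Ψ : Finset (IrrCharacter G)) : Prop where
  St_deg : charDegree (St : G → ℂ) = p
  deg : ∀ ψ ∈ Ψ, charDegree (ψ : G → ℂ) = p + 1
  real : ∀ ψ ∈ Ψ, ∀ g : G, (ψ : G → ℂ) g⁻¹ = (ψ : G → ℂ) g
  card : 2 * Ψ.card + 1 = Nat.card E
  sumΨ : ∀ x ∈ E, x ≠ 1 → ∑ ψ ∈ Ψ, (ψ : G → ℂ) x = -1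
  sumE : ∀ ψ ∈ Ψ, ∑ x : E, (ψ : G → ℂ) x = (p : ℂ) - 1
  others : ∀ χ : IrrCharacter G, χ ≠ Blocks.trivIrr G → χ ≠ St → χ ∉ Ψ →
    Nat.card E ∣ charDegree (χ : G → ℂ)

variable {P : Sylow p G} {E : Subgroup G}

/-- For `E` of odd order some involution inverts `E`. -/
theorem Setting.exists_inverting (h : Setting P E) (he : Odd (Nat.card E)) :
    ∃ τ ∈ Subgroup.normalizer (E : Set G), τ ∉ E ∧ τ * τ = 1 ∧ ∀ x ∈ E, τ * x * τ⁻¹ = x⁻¹ := by
  haveI : Fact (Nat.Prime 2) := ⟨Nat.prime_two⟩
  obtain ⟨⟨τ, hτN⟩, hτ⟩ := exists_prime_orderOf_dvd_card'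
    (G := Subgroup.normalizer (E : Set G)) 2 (by rw [h.hNE]; exact dvd_mul_right 2 _)
  rw [Subgroup.orderOf_mk] at hτ
  have hτE : τ ∉ E := fun hm => by
    have := Subgroup.orderOf_dvd_natCard E hm
    rw [hτ] at this
    exact Nat.not_even_iff_odd.mpr he (even_iff_two_dvd.mpr this)
  exact ⟨τ, hτN, hτE, (BSW.orderOf_two_iff.mp hτ).1, fun x hx => h.inverts_odd hτN hτE hx
    (he.of_dvd_nat (Subgroup.orderOf_dvd_natCard E hx))⟩

/-- Induced functions at a nontrivial element of `E`. -/
theorem Setting.indFun_mem (h : Setting P E) {τ : G} (hτN : τ ∈ Subgroup.normalizer (E : Set G))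
    (hτE : τ ∉ E) (hττ : τ * τ = 1) (hinv : ∀ x ∈ E, τ * x * τ⁻¹ = x⁻¹) {f : E → ℂ} (y : E)
    (hy : y ≠ 1) : indFun E f (y : G) = f y + f y⁻¹ := by
  have hy1 : (y : G) ≠ 1 := fun e => hy (Subtype.ext e)
  have hτinv : τ⁻¹ = τ := inv_eq_of_mul_eq_one_right hττ
  have hinv' : ∀ x ∈ E, τ⁻¹ * x * τ = x⁻¹ := fun x hx => by
    have := hinv x hx
    rw [hτinv] at this ⊢
    exact this
  have hval : ∀ x : G, extendByZero E f (x⁻¹ * y * x) =
      (if x ∈ E then f y else 0) + (if x * τ ∈ E then f y⁻¹ else 0) := by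
    intro x
    by_cases hk : x ∈ E
    · have hns : x * τ ∉ E := fun hk' => hτE (by simpa using E.mul_mem (E.inv_mem hk) hk')
      rw [if_pos hk, if_neg hns, add_zero,
        show x⁻¹ * y * x = y by rw [h.comm (E.inv_mem hk) y.2, inv_mul_cancel_right],
        extendByZero_coe]
    by_cases hk' : x * τ ∈ E
    · rw [if_neg hk, if_pos hk', zero_add,
        show x⁻¹ * y * x = ((y⁻¹ : E) : G) from ?_, extendByZero_coe]
      rw [show x⁻¹ * y * x = τ * ((x * τ)⁻¹ * y * (x * τ)) * τ⁻¹ by group,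
        h.comm (E.inv_mem hk') y.2, inv_mul_cancel_right, hinv y y.2, InvMemClass.coe_inv]
    rw [if_neg hk, if_neg hk', add_zero, extendByZero_notMem]
    intro hm
    have hxN : x⁻¹ ∈ Subgroup.normalizer (E : Set G) :=
      h.ti x⁻¹ y y.2 hy1 (by rwa [inv_inv])
    exact hk' (h.mul_mem_outer (by simpa using inv_mem hxN) hτN hk hτE)
  have hc1 : (Finset.univ.filter fun x : G => x ∈ E).card = Nat.card E := by
    rw [Nat.card_eq_fintype_card, Fintype.card_subtype]
  have hc2 : (Finset.univ.filter fun x : G => x * τ ∈ E).card = Nat.card E := by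
    rw [← hc1]
    exact Finset.card_bij' (fun x _ => x * τ) (fun x _ => x * τ)
      (fun x hx => by simpa using hx)
      (fun x hx => by
        simp only [Finset.mem_filter, Finset.mem_univ, true_and] at hx ⊢
        rwa [mul_assoc, hττ, mul_one])
      (fun x _ => by rw [mul_assoc, hττ, mul_one])
      (fun x _ => by rw [mul_assoc, hττ, mul_one])
  simp only [indFun, hval]
  rw [Finset.sum_add_distrib, ← Finset.sum_filter, ← Finset.sum_filter, Finset.sum_const,
    Finset.sum_const, hc1, hc2, nsmul_eq_mul, nsmul_eq_mul, ← mul_add, inv_mul_cancel_left₀]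
  exact Nat.cast_ne_zero.mpr Nat.card_pos.ne'

/-- Existence of the family. -/
theorem Setting.exists_fam (h : Setting P E) (he : Odd (Nat.card E)) :
    ∃ (St : IrrCharacter G) (Ψ : Finset (IrrCharacter G)), Fam P E St Ψ := by
  obtain ⟨τ, hτN, hτE, hττ, hinv⟩ := h.exists_inverting he
  obtain ⟨St, hSt, -⟩ := h.uniq
  haveI : Fintype E := Fintype.ofFinite E
  have hp : p.Prime := Fact.out
  have hd1 : ∀ l : IrrCharacter E, (l : E → ℂ) 1 = 1 := fun l =>
    degree_one_of_comm (fun a b => Subtype.ext (h.comm a.2 b.2)) l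
  set T0 := BSW.triv E with hT0
  set Irr' := (Finset.univ : Finset (IrrCharacter E)).erase T0 with hIrr'
  have hcardE : Fintype.card (IrrCharacter E) = Nat.card E := by
    have hsum := Char.sum_sq_degree (G := E)
    simp only [hd1, one_pow, Finset.sum_const, Finset.card_univ, nsmul_eq_mul, mul_one] at hsum
    exact_mod_cast hsum
  have hcard' : Irr'.card + 1 = Nat.card E := by
    rw [hIrr', Finset.card_erase_add_one (Finset.mem_univ _), Finset.card_univ, hcardE]
  have hbar : ∀ l : IrrCharacter E, l ≠ T0 → conjPerm l ≠ T0 ∧ conjPerm l ≠ l := by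
    intro l hl
    have hinvol : conjPerm (conjPerm l) = l :=
      Subtype.ext (funext fun x => by simp [conjPerm_apply])
    refine ⟨fun e => hl ?_, fun e => hl ?_⟩
    · rw [← hinvol, e]
      exact Subtype.ext (funext fun x => by rw [conjPerm_apply, hT0, BSW.triv_apply, map_one])
    · refine Subtype.ext ((irr_real_of_odd he l fun g => ?_).trans (funext fun x => by
        rw [hT0, BSW.triv_apply]))
      rw [← Complex.conj_eq_iff_im, ← conjPerm_apply, e]
  have hbar2 : ∀ l : IrrCharacter E, conjPerm (conjPerm l) = l := fun l =>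
    Subtype.ext (funext fun x => by simp [conjPerm_apply])
  -- multiplicities
  choose a ha using fun χ : IrrCharacter G =>
    exists_multiplicities (isCharacter_restrict E (isCharacter_of_isIrr χ.2))
  have hai : ∀ (χ : IrrCharacter G) (l : IrrCharacter E),
      classInner (fun y : E => (χ : G → ℂ) y) (l : E → ℂ) = (a χ l : ℂ) := fun χ l => by
    rw [ha χ]; exact classInner_sum_smul_irr (fun l => (a χ l : ℂ)) l
  have haval : ∀ (χ : IrrCharacter G) (y : E),
      (χ : G → ℂ) y = ∑ l : IrrCharacter E, (a χ l : ℂ) * (l : E → ℂ) y := fun χ y => by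
    have := congrFun (ha χ) y
    simpa [Finset.sum_apply] using this
  have hasym : ∀ (χ : IrrCharacter G) (l : IrrCharacter E), a χ (conjPerm l) = a χ l := by
    intro χ l
    have : (a χ (conjPerm l) : ℂ) = a χ l := by
      rw [← hai, ← hai, classInner, classInner]
      congr 1
      refine Fintype.sum_equiv (Equiv.inv E) _ _ fun y => ?_
      rw [Equiv.inv_apply, conjPerm_apply, irr_inv l y, InvMemClass.coe_inv, ← hinv y y.2,
        isClassFunction_irr χ]
    exact_mod_cast this
  set D : IrrCharacter E → IrrCharacter G → ℤ := fun l χ => (a χ l : ℤ) - a χ T0 with hD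
  set f : IrrCharacter E → E → ℂ := fun l => (l : E → ℂ) - (T0 : E → ℂ) with hf
  have hDspec : ∀ (l : IrrCharacter E) (χ : IrrCharacter G), classInner (indFun E (f l)) (χ : G → ℂ) = (D l χ : ℂ) := by
    intro l χ
    rw [frobenius_reciprocity E _ (isClassFunction_irr χ), hf, classInner_sub_left,
      ← classInner_conj_symm _ (l : E → ℂ), ← classInner_conj_symm _ (T0 : E → ℂ), hai, hai,
      map_natCast, map_natCast, hD]
    push_cast; rfl
  have hexp : ∀ l, indFun E (f l) = ∑ χ : IrrCharacter G, (D l χ : ℂ) • (χ : G → ℂ) := fun l => by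
    conv_lhs => rw [classFunction_expansion (f := indFun E (f l)) (isClassFunction_indFun E _)]
    exact Finset.sum_congr rfl fun χ _ => by rw [hDspec]
  have hf1 : ∀ l, f l 1 = 0 := fun l => by simp [hf, hd1]
  have hres : ∀ l : IrrCharacter E, (fun y : E => indFun E (f l) y) =
      ((l : E → ℂ) - (T0 : E → ℂ)) + ((conjPerm l : E → ℂ) - (T0 : E → ℂ)) := by
    intro l
    funext y
    by_cases hy : y = 1
    · subst hy
      rw [OneMemClass.coe_one, indFun_one, hf1, mul_zero]
      simp [hd1]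
    · rw [h.indFun_mem hτN hτE hττ hinv y hy]
      simp [hf, conjPerm_apply, irr_inv, hT0, BSW.triv_apply]
  have hgram : ∀ l ν : IrrCharacter E, l ≠ T0 → ν ≠ T0 → ∑ χ : IrrCharacter G, D l χ * D ν χ =
      (if l = ν then 1 else 0) + (if l = conjPerm ν then 1 else 0) + 2 := by
    intro l ν hl hν
    have h1 : classInner (indFun E (f l)) (indFun E (f ν)) =
        ((∑ χ : IrrCharacter G, D l χ * D ν χ : ℤ) : ℂ) := by
      rw [hexp l, hexp ν, classInner_sum_smul_sum_smul]
      push_cast
      exact Finset.sum_congr rfl fun χ _ => by rw [map_intCast]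
    rw [frobenius_reciprocity E _ (isClassFunction_indFun E _), hres ν] at h1
    simp only [hf, classInner_add_right, classInner_sub_right, classInner_sub_left,
      classInner_coe, if_neg hl, if_neg hν.symm, if_neg (hbar ν hν).1.symm, if_true] at h1
    apply Int.cast_injective (α := ℂ)
    rw [← h1]
    push_cast [apply_ite (Int.cast : ℤ → ℂ)]
    ring
  set TG := Blocks.trivIrr G with hTG
  have haT : ∀ l : IrrCharacter E, a TG l = if l = T0 then 1 else 0 := by
    intro l
    have e : (fun y : E => (TG : G → ℂ) y) = (T0 : E → ℂ) := funext fun y => by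
      rw [hT0, BSW.triv_apply]; rfl
    have h1 := hai TG l
    rw [e, classInner_coe] at h1
    by_cases hl : l = T0
    · rw [if_pos hl.symm] at h1; rw [if_pos hl]; exact_mod_cast h1.symm
    · rw [if_neg (fun e => hl e.symm)] at h1; rw [if_neg hl]; exact_mod_cast h1.symm
  have hDT : ∀ l, l ≠ T0 → D l TG = -1 := fun l hl => by
    simp [hD, haT, hl]
  have hnorm : ∀ l, l ≠ T0 → ∑ χ ∈ Finset.univ.erase TG, D l χ * D l χ = 2 := by
    intro l hl
    have h1 := hgram l l hl hl
    rw [if_pos rfl, if_neg (Ne.symm (hbar l hl).2), ← Finset.add_sum_erase _ _ (Finset.mem_univ TG),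
      hDT l hl] at h1
    omega
  have hdeg : ∀ χ : IrrCharacter G, (χ : G → ℂ) 1 = (charDegree (χ : G → ℂ) : ℂ) :=
    fun χ => (Blocks.irr_degree_eq χ).1
  have hdsum : ∀ χ : IrrCharacter G, (charDegree (χ : G → ℂ) : ℤ) =
      Nat.card E * (a χ T0 : ℤ) + ∑ l ∈ Irr', D l χ := by
    intro χ
    have h1 := haval χ 1
    rw [OneMemClass.coe_one, hdeg] at h1
    simp only [hd1, mul_one] at h1
    have h2 : charDegree (χ : G → ℂ) = ∑ l : IrrCharacter E, a χ l := by exact_mod_cast h1
    rw [h2, ← Finset.add_sum_erase _ _ (Finset.mem_univ T0), Finset.sum_sub_distrib,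
      Finset.sum_const, nsmul_eq_mul, ← hcard', hIrr']
    push_cast
    ring
  have hmem' : ∀ {l : IrrCharacter E}, l ∈ Irr' ↔ l ≠ T0 := fun {l} => by simp [hIrr']
  have hStT : St ≠ TG := fun e => by
    have h1 := hdeg St
    rw [hSt, e] at h1
    have : (1 : ℂ) = p := h1
    exact hp.one_lt.ne (by exact_mod_cast this)
  -- the character of degree `p`
  have hStD : ∀ l, l ≠ T0 → D l St = -1 := by
    have hle : ∀ l ∈ Irr', -1 ≤ D l St ∧ D l St ≤ 1 := by
      intro l hl
      have h1 := Finset.single_le_sum (f := fun χ => D l χ * D l χ) (fun χ _ => mul_self_nonneg _)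
        (Finset.mem_erase.mpr ⟨hStT, Finset.mem_univ St⟩)
      rw [hnorm l (hmem'.mp hl)] at h1
      constructor <;> nlinarith
    have h2 : ((∑ l ∈ Irr', D l St : ℤ) : ZMod 2) = 0 := by
      push_cast
      refine Finset.sum_involution (fun l _ => conjPerm l) (fun l hl => ?_) (fun l hl _ =>
        (hbar l (hmem'.mp hl)).2) (fun l hl => hmem'.mpr (hbar l (hmem'.mp hl)).1)
        (fun l _ => hbar2 l)
      have : D (conjPerm l) St = D l St := by simp [hD, hasym]
      rw [this]
      exact CharTwo.add_self_eq_zero _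
    rw [ZMod.intCast_zmod_eq_zero_iff_dvd] at h2
    have hsum := hdsum St
    rw [hSt] at hsum
    set S := ∑ l ∈ Irr', D l St with hS
    have hlow : -(Irr'.card : ℤ) ≤ S := by
      rw [hS]; simpa using Finset.card_nsmul_le_sum Irr' (fun l => D l St) (-1) fun l hl => (hle l hl).1
    have hup : S ≤ (Irr'.card : ℤ) := by
      rw [hS]; simpa using Finset.sum_le_card_nsmul Irr' (fun l => D l St) 1 fun l hl => (hle l hl).2
    obtain ⟨c, hc⟩ : ∃ c, Nat.card E * c + 1 = p := by
      obtain ⟨c, hc⟩ := h.dvd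
      exact ⟨c, by have := hp.one_lt; omega⟩
    obtain ⟨j, hj⟩ := h2
    have hS1 : ((Nat.card E : ℤ)) ∣ S - 1 := ⟨(c : ℤ) - a St T0, by
      have : (p : ℤ) = Nat.card E * c + 1 := by exact_mod_cast hc.symm
      linear_combination this - hsum⟩
    obtain ⟨m, hm⟩ := hS1
    have hEc : (Nat.card E : ℤ) = Irr'.card + 1 := by exact_mod_cast hcard'.symm
    have hm1 : m = -1 := by
      have hlt1 : m < 1 := by nlinarith
      have hlt2 : -2 < m := by nlinarith
      have : m ≠ 0 := fun e => by rw [e, mul_zero] at hm; omega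
      omega
    have hSval : S = -(Irr'.card : ℤ) := by rw [hm1] at hm; linarith
    intro l hl
    by_contra hne
    have h3 : ∑ l ∈ Irr', (-1 : ℤ) < S := by
      rw [hS]
      exact Finset.sum_lt_sum (fun i hi => (hle i hi).1)
        ⟨l, hmem'.mpr hl, lt_of_le_of_ne (hle l (hmem'.mpr hl)).1 (Ne.symm hne)⟩
    rw [Finset.sum_const, nsmul_eq_mul, mul_neg_one] at h3
    omega
  have hrest : ∀ l, l ≠ T0 → ∑ χ ∈ (Finset.univ.erase TG).erase St, D l χ * D l χ = 1 := fun l hl => by
    have h1 := hnorm l hl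
    rw [← Finset.add_sum_erase _ _ (Finset.mem_erase.mpr ⟨hStT, Finset.mem_univ St⟩),
      hStD l hl] at h1
    omega
  have hex : ∀ l, l ≠ T0 → ∃ χ : IrrCharacter G, (χ ≠ TG ∧ χ ≠ St) ∧ D l χ = 1 ∧
      charDegree (χ : G → ℂ) = p + 1 ∧ ∀ ξ, ξ ≠ TG → ξ ≠ St → ξ ≠ χ → D l ξ = 0 := by
    intro l hl
    obtain ⟨χ, hχ, hne⟩ := Finset.exists_ne_zero_of_sum_ne_zero
      (show ∑ χ ∈ (Finset.univ.erase TG).erase St, D l χ * D l χ ≠ 0 by rw [hrest l hl]; norm_num)
    have h1 := hrest l hl
    rw [← Finset.add_sum_erase _ _ hχ] at h1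
    have hnn : 0 ≤ ∑ ξ ∈ ((Finset.univ.erase TG).erase St).erase χ, D l ξ * D l ξ :=
      Finset.sum_nonneg fun _ _ => mul_self_nonneg _
    have hpos : 0 < D l χ * D l χ := lt_of_le_of_ne (mul_self_nonneg _) (Ne.symm hne)
    have hzero : ∀ ξ, ξ ≠ TG → ξ ≠ St → ξ ≠ χ → D l ξ = 0 := fun ξ h1' h2' h3' => by
      have h0 : ∑ ξ ∈ ((Finset.univ.erase TG).erase St).erase χ, D l ξ * D l ξ = 0 := by omega
      exact mul_self_eq_zero.mp ((Finset.sum_eq_zero_iff_of_nonneg fun _ _ => mul_self_nonneg _).mp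
        h0 ξ (by simp [h1', h2', h3']))
    have hχ' : χ ≠ TG ∧ χ ≠ St := by
      simp only [Finset.mem_erase, Finset.mem_univ, and_true] at hχ
      exact ⟨hχ.2, hχ.1⟩
    have hone : (indFun E (f l)) 1 = 0 := by rw [indFun_one, hf1, mul_zero]
    rw [hexp l, Finset.sum_apply] at hone
    have h0 : ∑ ξ : IrrCharacter G, D l ξ * (charDegree (ξ : G → ℂ) : ℤ) = 0 := by
      apply Int.cast_injective (α := ℂ)
      push_cast
      rw [← hone]
      exact Finset.sum_congr rfl fun ξ _ => by rw [Pi.smul_apply, smul_eq_mul, hdeg]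
    rw [← Finset.sum_subset (Finset.subset_univ ({TG, St, χ} : Finset _))
      (fun ξ _ hξ => by
        simp only [Finset.mem_insert, Finset.mem_singleton, not_or] at hξ
        rw [hzero ξ hξ.1 hξ.2.1 hξ.2.2, zero_mul]),
      Finset.sum_insert (by simp [hStT.symm, hχ'.1.symm]),
      Finset.sum_pair hχ'.2.symm, hDT l hl, hStD l hl, hSt] at h0
    have hT1 : charDegree (TG : G → ℂ) = 1 := by
      have : (charDegree (TG : G → ℂ) : ℂ) = 1 := by rw [← hdeg]; rfl
      exact_mod_cast this
    rw [hT1] at h0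
    push_cast at h0
    have hd0 : 0 ≤ (charDegree (χ : G → ℂ) : ℤ) := Int.natCast_nonneg _
    rcases mul_self_eq_one_iff.mp (show D l χ * D l χ = 1 by omega) with e | e <;> rw [e] at h0
    · exact ⟨χ, hχ', e, by omega, hzero⟩
    · exfalso; linarith
  choose φ hφne hφD hφd hφ0 using hex
  -- `φ` separates the conjugate pairs
  have hsep : ∀ l ν (hl : l ≠ T0) (hν : ν ≠ T0), φ l hl = φ ν hν ↔ ν = l ∨ ν = conjPerm l := by
    intro l ν hl hν
    constructor
    · intro e
      by_contra hc
      rw [not_or] at hc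
      have h1 := hgram l ν hl hν
      rw [if_neg (fun e' => hc.1 e'.symm),
        if_neg (fun e' => hc.2 (by rw [e', hbar2])),
        ← Finset.sum_subset (Finset.subset_univ ({TG, St, φ l hl} : Finset _))
          (fun ξ _ hξ => by
            simp only [Finset.mem_insert, Finset.mem_singleton, not_or] at hξ
            rw [hφ0 l hl ξ hξ.1 hξ.2.1 hξ.2.2, zero_mul]),
        Finset.sum_insert (by simp [hStT.symm, (hφne l hl).1.symm]),
        Finset.sum_pair (hφne l hl).2.symm, hDT l hl, hStD l hl, hφD, hDT ν hν, hStD ν hν, e,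
        hφD] at h1
      norm_num at h1
    · rintro (rfl | rfl)
      · rfl
      · by_contra hc
        have e : D (conjPerm l) (φ (conjPerm l) hν) = D l (φ (conjPerm l) hν) := by simp [hD, hasym]
        rw [hφD, hφ0 l hl _ (hφne _ hν).1 (hφne _ hν).2 (Ne.symm hc)] at e
        norm_num at e
  set F : IrrCharacter E → IrrCharacter G := fun l => if hl : l = T0 then TG else φ l hl with hF
  have hFv : ∀ l (hl : l ≠ T0), F l = φ l hl := fun l hl => by simp [hF, hl]
  set Ψ := Irr'.image F with hΨ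
  have hmemΨ : ∀ ψ ∈ Ψ, ∃ l, ∃ hl : l ≠ T0, φ l hl = ψ := fun ψ hψ => by
    obtain ⟨l, hl, rfl⟩ := Finset.mem_image.mp hψ
    exact ⟨l, hmem'.mp hl, (hFv l _).symm⟩
  have hfib : ∀ l (hl : l ≠ T0), (Irr'.filter fun ν => F ν = φ l hl) = {l, conjPerm l} := by
    intro l hl
    ext ν
    simp only [Finset.mem_filter, Finset.mem_insert, Finset.mem_singleton, hmem']
    constructor
    · rintro ⟨hν, e⟩
      rw [hFv ν hν] at e
      exact (hsep l ν hl hν).mp e.symm
    · intro hν
      have hν' : ν ≠ T0 := by rcases hν with rfl | rfl <;> [exact hl; exact (hbar l hl).1]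
      exact ⟨hν', by rw [hFv ν hν']; exact ((hsep l ν hl hν').mpr hν).symm⟩
  have hval : ∀ l (hl : l ≠ T0) (y : E), y ≠ 1 →
      (φ l hl : G → ℂ) y = (l : E → ℂ) y + (conjPerm l : E → ℂ) y := by
    intro l hl y hy
    have hcol : ∑ ν : IrrCharacter E, (ν : E → ℂ) y = 0 := by
      have := Char.sum_degree_mul_irr (G := E) y
      simp only [hd1, one_mul, map_one, if_neg hy] at this
      exact this
    have e : ∀ ν : IrrCharacter E, (a (φ l hl) ν : ℂ) * (ν : E → ℂ) y =
        (a (φ l hl) T0 : ℂ) * (ν : E → ℂ) y +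
          (if ν ∈ ({l, conjPerm l} : Finset _) then (ν : E → ℂ) y else 0) := by
      intro ν
      have hDν : D ν (φ l hl) = if ν ∈ ({l, conjPerm l} : Finset _) then 1 else 0 := by
        by_cases hν : ν = T0
        · rw [if_neg (by simp [hν, Ne.symm hl, Ne.symm (hbar l hl).1]), hν]; simp [hD]
        · split_ifs with hm
          · rw [Finset.mem_insert, Finset.mem_singleton] at hm
            rw [(hsep l ν hl hν).mpr hm, hφD]
          · rw [Finset.mem_insert, Finset.mem_singleton] at hm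
            exact hφ0 ν hν _ (hφne l hl).1 (hφne l hl).2 fun e => hm ((hsep l ν hl hν).mp e)
      have hDC : (a (φ l hl) ν : ℂ) - (a (φ l hl) T0 : ℂ) = ((D ν (φ l hl) : ℤ) : ℂ) := by
        simp [hD]
      rw [hDν] at hDC
      split_ifs at hDC ⊢ <;> push_cast at hDC <;> linear_combination (ν : E → ℂ) y * hDC
    rw [haval, Finset.sum_congr rfl fun ν _ => e ν, Finset.sum_add_distrib, ← Finset.mul_sum,
      hcol, mul_zero, zero_add, Finset.sum_ite_mem, Finset.univ_inter,
      Finset.sum_pair (Ne.symm (hbar l hl).2)]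
  have hsumE : ∀ l (hl : l ≠ T0), ∑ x : E, (φ l hl : G → ℂ) x = (p : ℂ) - 1 := by
    intro l hl
    rw [← Finset.add_sum_erase _ _ (Finset.mem_univ (1 : E)), OneMemClass.coe_one, hdeg, hφd,
      Finset.sum_congr rfl fun x hx => hval l hl x (Finset.mem_erase.mp hx).1,
      Finset.sum_add_distrib]
    have hz : ∀ ν : IrrCharacter E, ν ≠ T0 →
        ∑ x ∈ Finset.univ.erase (1 : E), (ν : E → ℂ) x = -1 := by
      intro ν hν
      have h0 : ∑ x : E, (ν : E → ℂ) x = 0 := by
        have h1 := classInner_irr_ne ν.2 T0.2 (fun e => hν (Subtype.ext e))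
        rw [classInner, mul_eq_zero] at h1
        have := h1.resolve_left (inv_ne_zero (Nat.cast_ne_zero.mpr Nat.card_pos.ne'))
        simpa [hT0, BSW.triv_apply] using this
      rw [← Finset.add_sum_erase _ _ (Finset.mem_univ (1 : E)), hd1] at h0
      linear_combination h0
    rw [hz l hl, hz _ (hbar l hl).1]
    push_cast; ring
  refine ⟨St, Ψ, hSt, fun ψ hψ => ?_, fun ψ hψ g => ?_, ?_, fun x hx hx1 => ?_,
    fun ψ hψ => ?_, fun χ h1 h2 h3 => ?_⟩
  · obtain ⟨l, hl, rfl⟩ := hmemΨ ψ hψ
    exact hφd l hl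
  · obtain ⟨l, hl, rfl⟩ := hmemΨ ψ hψ
    have hc : conjPerm (φ l hl) = φ l hl := by
      by_contra hne
      have hd : charDegree (conjPerm (φ l hl) : G → ℂ) = p + 1 := by
        have h1 := hdeg (conjPerm (φ l hl))
        rw [conjPerm_apply, hdeg, hφd, map_natCast] at h1
        exact_mod_cast h1.symm
      have ha' : ∀ ν, a (conjPerm (φ l hl)) ν = a (φ l hl) ν := fun ν => by
        rw [← hasym (φ l hl) ν]
        have : (a (conjPerm (φ l hl)) ν : ℂ) = a (φ l hl) (conjPerm ν) := by
          rw [← hai, ← Complex.conj_natCast (a (φ l hl) (conjPerm ν)), ← hai, classInner,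
            classInner, map_mul, map_inv₀, map_natCast, map_sum]
          congr 1
          exact Finset.sum_congr rfl fun x _ => by simp [conjPerm_apply]
        exact_mod_cast this
      have h1 : D l (conjPerm (φ l hl)) = 1 := by
        rw [← hφD l hl]; simp [hD, ha']
      refine absurd h1 ?_
      rw [hφ0 l hl _ (fun e => ?_) (fun e => ?_) hne]
      · norm_num
      · have := hdeg (TG : IrrCharacter G)
        rw [← e, hd] at this
        have h2 : (conjPerm (φ l hl) : G → ℂ) 1 = 1 := by rw [e]; rfl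
        rw [h2] at this
        have := hp.pos
        exact absurd (show 1 = p + 1 by exact_mod_cast ‹(1 : ℂ) = ((p + 1 : ℕ) : ℂ)›) (by omega)
      · rw [e, hSt] at hd; omega
    rw [irr_inv, ← conjPerm_apply, hc]
  · have h1 := Finset.card_eq_sum_card_image F Irr'
    rw [← hΨ, Finset.sum_congr rfl (g := fun _ => 2) (fun ψ hψ => by
      obtain ⟨l, hl, rfl⟩ := hmemΨ ψ hψ
      rw [hfib l hl, Finset.card_pair (Ne.symm (hbar l hl).2)]), Finset.sum_const, smul_eq_mul] at h1
    omega
  · have hy : (⟨x, hx⟩ : E) ≠ 1 := fun e => hx1 (congrArg Subtype.val e)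
    have hcol := Char.sum_degree_mul_irr (G := E) (⟨x, hx⟩ : E)
    simp only [hd1, one_mul, map_one, if_neg hy] at hcol
    rw [← Finset.add_sum_erase _ _ (Finset.mem_univ T0), hT0, BSW.triv_apply, ← hT0, ← hIrr',
      ← Finset.sum_fiberwise_of_maps_to (g := F) (t := Ψ)
        (fun l hl => Finset.mem_image_of_mem F hl),
      Finset.sum_congr rfl (g := fun ψ : IrrCharacter G => (ψ : G → ℂ) x) (fun ψ hψ => by
        obtain ⟨l, hl, rfl⟩ := hmemΨ ψ hψ
        rw [hfib l hl, Finset.sum_pair (Ne.symm (hbar l hl).2)]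
        exact (hval l hl ⟨x, hx⟩ hy).symm)] at hcol
    linear_combination hcol
  · obtain ⟨l, hl, rfl⟩ := hmemΨ ψ hψ
    convert hsumE l hl
  · have h0 : ∑ l ∈ Irr', D l χ = 0 := Finset.sum_eq_zero fun l hl => by
      have hl' := hmem'.mp hl
      exact hφ0 l hl' χ h1 h2 fun e => h3 (e ▸ Finset.mem_image.mpr ⟨l, hl, hFv l hl'⟩)
    have := hdsum χ
    rw [h0, add_zero] at this
    exact Int.natCast_dvd_natCast.mp ⟨_, this⟩

end CfsgLib.PrimeDegTI
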