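import Cfsg.Agent.Lib.PrimeDegTI.Fusion
import Cfsg.Agent.Lib.BSW.Recognition
import Cfsg.Agent.Lib.Transfer.Thompson
import Cfsg.Agent.Lib.ZStar.Recognize
import Cfsg.Agent.Lib.TwoRank.MaxClass
import Cfsg.Agent.S0201

/-!
# A complement of even order
-/

set_option autoImplicit false
set_option linter.unusedSectionVars false
set_option linter.style.haveILetI false

open scoped Classical

namespace CfsgLib.PrimeDegTI

open Cfsg CfsgLib

universe u

variable {G : Type u} [Group G] [Finite G] {p : ℕ} [Fact p.Prime] {P : Sylow p G} {E : Subgroup G}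

/-- A simple group of this kind has no subgroup of index two. -/
theorem Setting.no_index_two (h : Setting P E) {M : Subgroup G} (hM : M.index = 2) : False := by
  haveI := h.simple
  haveI := Subgroup.normal_of_index_eq_two hM
  rcases (inferInstance : M.Normal).eq_bot_or_eq_top with e | e <;> rw [e] at hM
  · rw [Subgroup.index_bot] at hM
    have := Nat.le_of_dvd Nat.card_pos h.p_dvd
    have := h.hp5
    omega
  · rw [Subgroup.index_top] at hM; omega

/-- The involution of `E`. -/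
theorem Setting.exists_invol (h : Setting P E) (he : Even (Nat.card E)) :
    ∃ z ∈ E, orderOf z = 2 ∧ (∀ x ∈ E, x * x = 1 → x = 1 ∨ x = z) ∧
      ∀ g : G, g * z = z * g ↔ g ∈ Subgroup.normalizer (E : Set G) := by
  haveI := h.cyc
  obtain ⟨⟨z, hzE⟩, hz⟩ := exists_prime_orderOf_dvd_card' (G := E) 2 (even_iff_two_dvd.mp he)
  rw [Subgroup.orderOf_mk] at hz
  have hzz := BSW.orderOf_two_iff.mp hz
  have huniq : ∀ x ∈ E, x * x = 1 → x = 1 ∨ x = z := by
    intro x hx hxx
    by_cases h1 : x = 1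
    · exact Or.inl h1
    exact Or.inr (congrArg Subtype.val (Transfer.eq_of_sq_eq_one_of_isCyclic
      (⟨x, hx⟩ : E) ⟨z, hzE⟩ (Subtype.ext hxx) (Subtype.ext hzz.1)
      (fun e => h1 (congrArg Subtype.val e)) fun e => hzz.2 (congrArg Subtype.val e)))
  refine ⟨z, hzE, hz, huniq, fun g => ⟨fun hg => h.ti g z hzE hzz.2 ?_, fun hg => ?_⟩⟩
  · rw [hg, mul_inv_cancel_right]; exact hzE
  · rcases huniq _ (h.conj_mem hg hzE) (by
      rw [show g * z * g⁻¹ * (g * z * g⁻¹) = g * (z * z) * g⁻¹ by group, hzz.1, mul_one,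
        mul_inv_cancel]) with e | e
    · exact absurd (conj_eq_one_iff.mp e) hzz.2
    · exact mul_inv_eq_iff_eq_mul.mp e

/-- A Sylow subgroup at two inside `N(E)`. -/
theorem Setting.exists_sylow (h : Setting P E) {z : G} (hzE : z ∈ E) (hz : orderOf z = 2)
    (huniq : ∀ x ∈ E, x * x = 1 → x = 1 ∨ x = z)
    (hcent : ∀ g : G, g * z = z * g ↔ g ∈ Subgroup.normalizer (E : Set G)) :
    ∃ S : Sylow 2 G, z ∈ (S : Subgroup G) ∧
      (S : Subgroup G) ≤ Subgroup.normalizer (E : Set G) := by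
  haveI : Fact (Nat.Prime 2) := ⟨Nat.prime_two⟩
  haveI := h.simple
  obtain ⟨hz2, hz1⟩ := BSW.orderOf_two_iff.mp hz
  set N := Subgroup.normalizer (E : Set G)
  obtain ⟨Q⟩ : Nonempty (Sylow 2 N) := inferInstance
  obtain ⟨S, hS⟩ := (Q.2.map N.subtype).exists_le_sylow
  have hzS : z ∈ (S : Subgroup G) := by
    have hzN : z ∈ N := Subgroup.le_normalizer hzE
    obtain ⟨R, hR⟩ := (IsPGroup.of_card (p := 2) (n := 1)
      (show Nat.card (Subgroup.zpowers (⟨z, hzN⟩ : N)) = 2 ^ 1 by
        rw [Nat.card_zpowers, Subgroup.orderOf_mk, hz, pow_one])).exists_le_sylow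
    obtain ⟨c, hc⟩ := MulAction.exists_smul_eq N R Q
    refine hS ⟨⟨z, hzN⟩, ?_, rfl⟩
    rw [← hc, Sylow.coe_subgroup_smul]
    refine ⟨⟨z, hzN⟩, hR (Subgroup.mem_zpowers _), Subtype.ext ?_⟩
    show (c : G) * z * (c : G)⁻¹ = z
    rw [(hcent c).mpr c.2, mul_inv_cancel_right]
  by_cases hle : (S : Subgroup G) ≤ N
  · exact ⟨S, hzS, hle⟩
  exfalso
  haveI : Nontrivial (S : Subgroup G) :=
    ⟨⟨⟨z, hzS⟩, 1, fun e => hz1 (congrArg Subtype.val e)⟩⟩
  haveI : Nontrivial (Subgroup.center (S : Subgroup G)) := S.2.center_nontrivial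
  obtain ⟨⟨⟨w, hwS⟩, hwc⟩, hw⟩ := exists_prime_orderOf_dvd_card'
    (G := Subgroup.center (S : Subgroup G)) 2
    (((S.2.to_subgroup _).card_eq_or_dvd).resolve_left fun e =>
      (Finite.one_lt_card_iff_nontrivial.mpr inferInstance).ne' e)
  rw [Subgroup.orderOf_mk, Subgroup.orderOf_mk] at hw
  have hwcom : ∀ y ∈ (S : Subgroup G), y * w = w * y := fun y hy =>
    congrArg Subtype.val (Subgroup.mem_center_iff.mp hwc ⟨y, hy⟩)
  obtain ⟨hw2, hw1⟩ := BSW.orderOf_two_iff.mp hw
  have hwN : w ∈ N := (hcent w).mp (hwcom z hzS).symm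
  have hwE : w ∉ E := fun hwE => hle fun y hy => (hcent y).mp (by
    rw [← (huniq w hwE hw2).resolve_left hw1]; exact hwcom y hy)
  have hzw : w * z = z * w := (hcent w).mpr hwN
  -- squares of the elements of `S` in `N` lie in `E`
  have hsq : ∀ t ∈ N, t * t ∈ E := fun t ht => by
    by_cases htE : t ∈ E
    · exact mul_mem htE htE
    · exact h.mul_mem_outer ht ht htE htE
  set T := (S : Subgroup G) ⊓ N with hT
  have hTlt : T.subgroupOf (S : Subgroup G) < ⊤ := lt_top_iff_ne_top.mpr fun e => hle fun y hy => by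
    have : (⟨y, hy⟩ : (S : Subgroup G)) ∈ T.subgroupOf (S : Subgroup G) := e ▸ Subgroup.mem_top _
    exact this.2
  -- every element of `T` has square one
  have hexp : ∀ t ∈ T, t * t = 1 := by
    haveI := S.2.isNilpotent
    obtain ⟨⟨n, hnS⟩, hn, hnT⟩ := SetLike.exists_of_lt
      (Group.normalizerCondition_of_isNilpotent _ hTlt)
    have hnN : n ∉ N := fun hn' => hnT ⟨hnS, hn'⟩
    have hnt : ∀ t ∈ T, n * t * n⁻¹ ∈ T := fun t ht =>
      (Subgroup.mem_normalizer_iff.mp hn ⟨t, ht.1⟩).mp ht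
    intro t ht
    by_contra hne
    refine hnN (h.ti n (t * t) (hsq t ht.2) hne ?_)
    rw [show n * (t * t) * n⁻¹ = n * t * n⁻¹ * (n * t * n⁻¹) by group]
    exact hsq _ (hnt t ht).2
  have hTmem : ∀ t ∈ T, t = 1 ∨ t = z ∨ t = w ∨ t = z * w := by
    intro t ht
    by_cases htE : t ∈ E
    · rcases huniq t htE (hexp t ht) with e | e
      · exact Or.inl e
      · exact Or.inr (Or.inl e)
    · have h1 : t * w ∈ E := h.mul_mem_outer ht.2 hwN htE hwE
      have h2 := hexp (t * w) (T.mul_mem ht ⟨hwS, hwN⟩)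
      have e : t = t * w * w := by rw [mul_assoc, hw2, mul_one]
      rcases huniq _ h1 h2 with e' | e' <;> rw [e'] at e
      · exact Or.inr (Or.inr (Or.inl (by rw [e, one_mul])))
      · exact Or.inr (Or.inr (Or.inr e))
  -- the centraliser of `z` in `S`
  have hC4 : Nat.card (Subgroup.centralizer ({⟨z, hzS⟩} : Set (S : Subgroup G))) ≤ 4 := by
    have hm : ∀ a : Subgroup.centralizer ({⟨z, hzS⟩} : Set (S : Subgroup G)),
        (((a : (S : Subgroup G)) : G)) ∈ ({1, z, w, z * w} : Finset G) := fun a => by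
      have ha : ((a : (S : Subgroup G)) : G) * z = z * (a : (S : Subgroup G)) :=
        congrArg Subtype.val (Subgroup.mem_centralizer_singleton_iff.mp a.2)
      rcases hTmem _ ⟨(a : (S : Subgroup G)).2, (hcent _).mp ha⟩ with e | e | e | e <;> simp [e]
    refine (Nat.card_le_card_of_injective (fun a => (⟨_, hm a⟩ : ({1, z, w, z * w} : Finset G)))
      fun a b e => Subtype.ext (Subtype.ext
        (congrArg (fun w : ({1, z, w, z * w} : Finset G) => (w : G)) e))).trans ?_
    rw [Nat.card_eq_fintype_card, Fintype.card_coe]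
    exact Finset.card_le_four
  -- `T` has order four, so `S` has order at least eight
  have hT4 : Nat.card T = 4 := by
    have hs : ∀ x : G, x ∈ T ↔ x ∈ ({1, z, w, z * w} : Finset G) := by
      intro x
      have hzT : z ∈ T := ⟨hzS, Subgroup.le_normalizer hzE⟩
      have hwT : w ∈ T := ⟨hwS, hwN⟩
      refine ⟨fun hx => ?_, fun hx => ?_⟩
      · rcases hTmem x hx with e | e | e | e <;> simp [e]
      · simp only [Finset.mem_insert, Finset.mem_singleton] at hx
        rcases hx with e | e | e | e <;> rw [e]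
        exacts [one_mem _, hzT, hwT, mul_mem hzT hwT]
    rw [Nat.card_congr (Equiv.subtypeEquivRight hs), Nat.card_eq_fintype_card, Fintype.card_coe]
    have hzw' : z ≠ w := fun e => hwE (e ▸ hzE)
    have h1 : z * w ≠ 1 := fun e => hzw' (by
      rw [← BSW.inv_of_two hw]; exact eq_inv_of_mul_eq_one_left e)
    have h2 : z * w ≠ z := fun e => hw1 (mul_left_cancel (e.trans (mul_one z).symm))
    have h3 : z * w ≠ w := fun e => hz1 (mul_right_cancel (e.trans (one_mul w).symm))
    rw [Finset.card_insert_of_notMem (by simp [hz1.symm, hw1.symm, h1.symm]),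
      Finset.card_insert_of_notMem (by simp [hzw', h2.symm]),
      Finset.card_insert_of_notMem (by simp [h3.symm]), Finset.card_singleton]
  have hS8 : 8 ≤ Nat.card (S : Subgroup G) := by
    have hd : Nat.card T ∣ Nat.card (S : Subgroup G) := Subgroup.card_dvd_of_le inf_le_left
    have hne : Nat.card T ≠ Nat.card (S : Subgroup G) := fun e => hle
      ((Subgroup.eq_of_le_of_card_ge (inf_le_left (b := N)) e.ge).ge.trans inf_le_right)
    obtain ⟨c, hc⟩ := hd
    rw [hT4] at hc hne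
    rcases Nat.lt_or_ge c 2 with hc2 | hc2
    · have : c = 0 ∨ c = 1 := by omega
      rcases this with rfl | rfl
      · have := Nat.card_pos (α := (S : Subgroup G)); omega
      · omega
    · omega
  obtain h4 | ⟨⟨u, huS⟩, hu⟩ := TwoRank.exists_cyclic_half S.2 ⟨z, hzS⟩ hC4
  · omega
  rw [Subgroup.orderOf_mk] at hu
  set U := Subgroup.zpowers u with hU
  have hUS : U ≤ (S : Subgroup G) := Subgroup.zpowers_le.mpr huS
  have hUc : Nat.card U = orderOf u := Nat.card_zpowers u
  have hzU : z ∉ U := fun hzU => by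
    obtain ⟨i, hi⟩ := Subgroup.mem_zpowers_iff.mp hzU
    have huT : u ∈ T := ⟨huS, (hcent u).mp (by rw [← hi]; exact (Commute.self_zpow u i).eq)⟩
    have := orderOf_dvd_of_pow_eq_one (show u ^ 2 = 1 by rw [pow_two]; exact hexp u huT)
    have := Nat.le_of_dvd two_pos this
    omega
  have hUi : U.relIndex (S : Subgroup G) = 2 := by
    have h1 := (U.subgroupOf (S : Subgroup G)).card_mul_index
    rw [Nat.card_congr (Subgroup.subgroupOfEquivOfLe hUS).toEquiv, hUc] at h1
    have h2 : U.relIndex (S : Subgroup G) ≠ 1 := fun e => hzU (Subgroup.relIndex_eq_one.mp e hzS)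
    have h3 : U.relIndex (S : Subgroup G) ≠ 0 := Subgroup.index_ne_zero_of_finite
    have h4 : (U.subgroupOf (S : Subgroup G)).index ≤ 2 := by
      have := orderOf_pos u
      nlinarith
    change U.relIndex (S : Subgroup G) ≤ 2 at h4
    omega
  rcases Transfer.thompson_transfer S hUi hz2 hzS hzU with ⟨M, -, hM, -⟩ | ⟨g, -, hg⟩
  · exact h.no_index_two hM
  set v := g⁻¹ * u * g with hv
  have hvo : orderOf v = orderOf u := by
    rw [hv, show g⁻¹ * u * g = g⁻¹ * u * g⁻¹⁻¹ by group, BSW.orderOf_conj]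
  obtain ⟨i, hi⟩ := Subgroup.mem_zpowers_iff.mp hg
  have hvN : v ∈ N := (hcent v).mp (by
    have : u * (g * z * g⁻¹) = g * z * g⁻¹ * u := by rw [← hi]; exact (Commute.self_zpow u i).eq
    show g⁻¹ * u * g * z = z * (g⁻¹ * u * g)
    calc g⁻¹ * u * g * z = g⁻¹ * (u * (g * z * g⁻¹)) * g := by group
      _ = g⁻¹ * (g * z * g⁻¹ * u) * g := by rw [this]
      _ = _ := by group)
  obtain ⟨n, hn⟩ := IsPGroup.iff_orderOf.mp S.2 ⟨u, huS⟩
  rw [Subgroup.orderOf_mk] at hn
  have hn2 : 2 ≤ n := by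
    by_contra hlt
    have : 2 ^ n ≤ 2 ^ 1 := Nat.pow_le_pow_right two_pos (by omega)
    omega
  -- a power of `v` of order four
  set x := v ^ 2 ^ (n - 2) with hx
  have hxo : orderOf x = 4 := by
    rw [hx, orderOf_pow_of_dvd (by positivity) (by rw [hvo, hn]; exact pow_dvd_pow 2 (by omega)),
      hvo, hn, Nat.pow_div (by omega) two_pos, show n - (n - 2) = 2 by omega]
    norm_num
  have hxN : x ∈ N := N.pow_mem hvN _
  have hxx : orderOf (x * x) = 2 := by
    rw [← pow_two, orderOf_pow_of_dvd two_ne_zero (by rw [hxo]; norm_num), hxo]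
  obtain ⟨hxx2, hxx1⟩ := BSW.orderOf_two_iff.mp hxx
  have hxz : x * x = z := (huniq _ (hsq x hxN) hxx2).resolve_left hxx1
  -- a conjugate of `x` lies in `T`
  obtain ⟨R, hR⟩ := (IsPGroup.of_card (p := 2) (n := 2)
    (show Nat.card (Subgroup.zpowers (⟨x, hxN⟩ : N)) = 2 ^ 2 by
      rw [Nat.card_zpowers, Subgroup.orderOf_mk, hxo]; norm_num)).exists_le_sylow
  obtain ⟨c, hc⟩ := MulAction.exists_smul_eq N R Q
  have hxT : (c : G) * x * (c : G)⁻¹ ∈ T := by
    refine ⟨hS ⟨c * ⟨x, hxN⟩ * c⁻¹, ?_, rfl⟩, N.mul_mem (N.mul_mem c.2 hxN) (N.inv_mem c.2)⟩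
    rw [← hc, Sylow.coe_subgroup_smul]
    exact ⟨⟨x, hxN⟩, hR (Subgroup.mem_zpowers _), rfl⟩
  have := orderOf_dvd_of_pow_eq_one (show ((c : G) * x * (c : G)⁻¹) ^ 2 = 1 by
    rw [pow_two]; exact hexp _ hxT)
  rw [BSW.orderOf_conj, hxo] at this
  norm_num at this

/-- The group of order four called `QuaternionGroup 1` is cyclic. -/
theorem quaternion_one_gen : ∀ x : QuaternionGroup 1,
    ∃ i : Fin 4, (QuaternionGroup.xa (0 : ZMod (2 * 1))) ^ (i : ℕ) = x := by decide

/-- An even complement gives the recognition hypothesis. -/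
theorem Setting.even_case (h : Setting P E) (he : Even (Nat.card E)) :
    (p = 5 ∨ p = 7 ∨ p = 11) ∧ ∃ (F : Type) (_ : Field F) (_ : Fintype F),
      Fintype.card F = p ∧ Nonempty (G ≃* Matrix.ProjectiveSpecialLinearGroup (Fin 2) F) := by
  haveI : Fact (Nat.Prime 2) := ⟨Nat.prime_two⟩
  haveI := h.simple
  haveI := h.cyc
  obtain ⟨z, hzE, hz, huniq, hcent⟩ := h.exists_invol he
  obtain ⟨S, hzS, hSN⟩ := h.exists_sylow hzE hz huniq hcent
  obtain ⟨hz2, hz1⟩ := BSW.orderOf_two_iff.mp hz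
  set N := Subgroup.normalizer (E : Set G) with hN
  set U := (S : Subgroup G) ⊓ E with hU
  have hEN : E ≤ N := Subgroup.le_normalizer
  -- `U` has index two in `S`
  obtain ⟨b, hbS, hbE⟩ : ∃ b ∈ (S : Subgroup G), b ∉ E := by
    by_contra hc
    push Not at hc
    have h1 : Nat.card (S : Subgroup G) ∣ Nat.card E := Subgroup.card_dvd_of_le hc
    rw [Sylow.card_eq_multiplicity] at h1
    have h2 : 2 * Nat.card E ∣ Nat.card G := h.hNE ▸ Subgroup.card_subgroup_dvd_card _
    have h3 := (Nat.prime_two.pow_dvd_iff_le_factorization (Nat.card_pos (α := E)).ne').mp h1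
    have h4 : 2 ^ ((Nat.card E).factorization 2 + 1) ∣ Nat.card G := by
      refine dvd_trans ?_ h2
      rw [pow_succ']
      exact Nat.mul_dvd_mul_left 2 (Nat.ordProj_dvd _ _)
    have h5 := (Nat.prime_two.pow_dvd_iff_le_factorization Nat.card_pos.ne').mp h4
    omega
  have hUi : (U.subgroupOf (S : Subgroup G)).index = 2 := by
    rw [Subgroup.index_eq_two_iff]
    refine ⟨⟨b, hbS⟩, fun a => ?_⟩
    simp only [Subgroup.mem_subgroupOf, Subgroup.coe_mul, hU, Subgroup.mem_inf]
    by_cases haE : (a : G) ∈ E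
    · refine Or.inr ⟨⟨a.2, haE⟩, fun hab => hbE ?_⟩
      simpa using E.mul_mem (E.inv_mem haE) hab.2
    · exact Or.inl ⟨⟨mul_mem a.2 hbS, h.mul_mem_outer (hSN a.2) (hSN hbS) haE hbE⟩,
        fun ha => haE ha.2⟩
  obtain ⟨s, hsS, hs2, hsE⟩ : ∃ s ∈ (S : Subgroup G), orderOf s = 2 ∧ s ∉ E := by
    by_contra hc
    push Not at hc
    have huS : ∀ x y : (S : Subgroup G), orderOf x = 2 → orderOf y = 2 → x = y := by
      have key : ∀ x : (S : Subgroup G), orderOf x = 2 → (x : G) = z := fun x hx => by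
        rw [← Subgroup.orderOf_coe] at hx
        obtain ⟨h2, h1⟩ := BSW.orderOf_two_iff.mp hx
        exact (huniq x (hc x x.2 hx) h2).resolve_left h1
      exact fun x y hx hy => Subtype.ext ((key x hx).trans (key y hy).symm)
    have hcyc : IsCyclic (S : Subgroup G) → False := by
      intro hcyc
      have hmin : (Nat.card G).minFac = 2 := by
        rw [Nat.minFac_eq_two_iff, ← hz]; exact orderOf_dvd_natCard z
      haveI := hcyc
      have hNS := IsCyclic.normalizer_le_centralizer hmin hcyc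
      have hcard := (MonoidHom.ker_transferSylow_isComplement' S hNS).card_mul
      rcases (inferInstance : (MonoidHom.ker (MonoidHom.transferSylow S hNS)).Normal).eq_bot_or_eq_top
        with e | e <;> rw [e] at hcard
      · rw [Subgroup.card_bot, one_mul] at hcard
        obtain ⟨k, hk⟩ := IsPGroup.iff_card.mp S.2
        rw [hk] at hcard
        have hd : p ∣ 2 ^ k := hcard ▸ h.p_dvd
        have := (Nat.prime_dvd_prime_iff_eq Fact.out Nat.prime_two).mp
          ((Fact.out : p.Prime).dvd_of_dvd_pow hd)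
        have := h.hp5
        omega
      · rw [Subgroup.card_top] at hcard
        have h1 : Nat.card (S : Subgroup G) = 1 :=
          Nat.eq_of_mul_eq_mul_left (Nat.card_pos (α := G)) (hcard.trans (mul_one _).symm)
        rw [Subgroup.card_eq_one] at h1
        rw [h1, Subgroup.mem_bot] at hzS
        exact hz1 hzS
    rcases ZStar.cyclic_or_quaternion S.2 huS with hC | ⟨n, ⟨e⟩⟩
    · exact hcyc hC
    cases n with
    | zero =>
      refine hcyc ?_
      haveI : IsCyclic (QuaternionGroup (2 ^ 0)) := ⟨⟨QuaternionGroup.xa 0, fun x => by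
        obtain ⟨i, hi⟩ := quaternion_one_gen x
        exact ⟨(i : ℤ), by simpa using hi⟩⟩⟩
      exact isCyclic_of_surjective e.symm.toMonoidHom e.symm.surjective
    | succ n =>
      have hO : ∀ M : Subgroup G, M.Normal → Odd (Nat.card M) → M = ⊥ := fun M hM hodd =>
        hM.eq_bot_or_eq_top.resolve_right fun e' => by
          rw [e', Subgroup.card_top] at hodd
          exact Nat.not_even_iff_odd.mpr hodd (even_iff_two_dvd.mpr (hz ▸ orderOf_dvd_natCard z))
      have h2 := Cfsg.Agent.S0201.result S n e hO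
      rcases (inferInstance : (Subgroup.center G).Normal).eq_bot_or_eq_top with e' | e' <;>
        rw [e'] at h2
      · rw [Subgroup.card_bot] at h2; omega
      · rw [Subgroup.card_top] at h2
        have := Nat.le_of_dvd Nat.card_pos h.p_dvd
        have := h.hp5
        omega
  have hsN : s ∈ N := hSN hsS
  obtain ⟨hss, hs1⟩ := BSW.orderOf_two_iff.mp hs2
  have hsinv : s⁻¹ = s := BSW.inv_of_two hs2
  -- generator of `U`
  haveI : IsCyclic U := isCyclic_of_injective (Subgroup.inclusion (inf_le_right : U ≤ E))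
    (Subgroup.inclusion_injective _)
  obtain ⟨⟨u, huU⟩, hu⟩ := IsCyclic.exists_generator (α := U)
  have huE : u ∈ E := huU.2
  have huS : u ∈ (S : Subgroup G) := huU.1
  have hgen : ∀ y ∈ U, ∃ i : ℤ, u ^ i = y := fun y hy => by
    obtain ⟨i, hi⟩ := Subgroup.mem_zpowers_iff.mp (hu ⟨y, hy⟩)
    exact ⟨i, by simpa using congrArg Subtype.val hi⟩
  have hsplit : ∀ y ∈ (S : Subgroup G), y ∉ E → ∃ i : ℤ, y = u ^ i * s := fun y hy hyE => by
    obtain ⟨i, hi⟩ := hgen (y * s) ⟨mul_mem hy hsS, h.mul_mem_outer (hSN hy) hsN hyE hsE⟩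
    exact ⟨i, by rw [hi, mul_assoc, hss, mul_one]⟩
  set c := u * (s * u * s⁻¹) with hcdef
  have hsu : s * u * s⁻¹ ∈ E := h.conj_mem hsN huE
  have hsq : ∀ i : ℤ, u ^ i * s * (u ^ i * s) = c ^ i := fun i => by
    rw [hcdef, Commute.mul_zpow (h.comm huE hsu), conj_zpow, hsinv]
    group
  have hinvu : s * u * s⁻¹ = u⁻¹ := by
    by_contra hne
    have hc1 : c ≠ 1 := fun e => hne (eq_inv_of_mul_eq_one_right e)
    obtain ⟨n, hn⟩ := IsPGroup.iff_orderOf.mp S.2 ⟨u, huS⟩
    rw [Subgroup.orderOf_mk] at hn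
    obtain ⟨i0, hi0⟩ := hgen z ⟨hzS, hzE⟩
    have huu : u * u ≠ 1 := fun e => hne (by
      rcases huniq u huE e with e' | e'
      · rw [e']; simp
      · rw [e', (hcent s).mpr hsN, mul_inv_cancel_right, BSW.inv_of_two hz])
    have hn2 : 2 ≤ n := by
      by_contra hlt
      refine huu ?_
      rw [← pow_two, ← orderOf_dvd_iff_pow_eq_one, hn]
      calc 2 ^ n ∣ 2 ^ 1 := pow_dvd_pow 2 (by omega)
        _ = 2 := pow_one 2
    -- parity of exponents
    have hpar : (2 : ℤ) ∣ orderOf u := by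
      rw [hn]; exact_mod_cast dvd_pow_self 2 (show n ≠ 0 by omega)
    have hord : ∀ i : ℤ, orderOf (u ^ i) = orderOf u ↔ ¬ (2 : ℤ) ∣ i := by
      intro i
      constructor
      · rintro ho ⟨j, rfl⟩
        have h1 : (u ^ (2 * j)) ^ (2 ^ (n - 1)) = 1 := by
          rw [← zpow_natCast, ← zpow_mul, ← orderOf_dvd_iff_zpow_eq_one, hn]
          refine ⟨j, ?_⟩
          push_cast
          rw [show n = n - 1 + 1 by omega, pow_succ, Nat.add_sub_cancel]
          ring
        have := orderOf_dvd_of_pow_eq_one h1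
        rw [ho, hn, Nat.pow_dvd_pow_iff_le_right one_lt_two] at this
        omega
      · intro hi
        obtain ⟨a, b, hab⟩ := ((Int.prime_two.coprime_iff_not_dvd.mpr hi).symm.pow_right (n := n))
        refine Nat.dvd_antisymm (orderOf_dvd_of_pow_eq_one ?_) (orderOf_dvd_of_pow_eq_one ?_)
        · rw [← zpow_natCast, ← zpow_mul, mul_comm, zpow_mul, zpow_natCast, pow_orderOf_eq_one,
            one_zpow]
        · have : u = (u ^ i) ^ a := by
            rw [← zpow_mul]
            conv_lhs => rw [← zpow_one u, ← hab]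
            rw [zpow_add, mul_comm a i, show b * (2 : ℤ) ^ n = ((2 ^ n : ℕ) : ℤ) * b by
              push_cast; ring, zpow_mul u (((2 ^ n : ℕ) : ℤ)), zpow_natCast, ← hn,
              pow_orderOf_eq_one, one_zpow, mul_one]
          calc u ^ orderOf (u ^ i) = ((u ^ i) ^ a) ^ orderOf (u ^ i) := by rw [← this]
            _ = ((u ^ i) ^ orderOf (u ^ i)) ^ a := by
              rw [← zpow_natCast, ← zpow_mul, mul_comm, zpow_mul, zpow_natCast]
            _ = 1 := by rw [pow_orderOf_eq_one, one_zpow]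
    have hsodd : ∀ i : ℤ, ¬ (2 : ℤ) ∣ i → c ^ i ≠ 1 := fun i hi e => by
      obtain ⟨m, hm⟩ := IsPGroup.iff_orderOf.mp S.2 ⟨c, (S : Subgroup G).mul_mem huS
        ((S : Subgroup G).mul_mem ((S : Subgroup G).mul_mem hsS huS) ((S : Subgroup G).inv_mem hsS))⟩
      rw [Subgroup.orderOf_mk] at hm
      rw [← orderOf_dvd_iff_zpow_eq_one, hm] at e
      rcases Nat.eq_zero_or_pos m with rfl | hm0
      · exact hc1 (orderOf_eq_one_iff.mp (by rw [hm, pow_zero]))
      · refine hi (dvd_trans ?_ e)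
        exact_mod_cast dvd_pow_self 2 hm0.ne'
    -- the subgroup `D`
    have hu2S : u * u ∈ (S : Subgroup G) := mul_mem huS huS
    set W := Subgroup.zpowers (u * u) with hW
    have hsW : Subgroup.zpowers s ≤ Subgroup.normalizer (W : Set G) := by
      rw [Subgroup.zpowers_le]
      refine Subgroup.mem_normalizer_fintype fun y hy => ?_
      obtain ⟨i, rfl⟩ := Subgroup.mem_zpowers_iff.mp hy
      obtain ⟨j, hj⟩ := hgen (s * u * s⁻¹) ⟨(S : Subgroup G).mul_mem ((S : Subgroup G).mul_mem hsS huS) ((S : Subgroup G).inv_mem hsS), hsu⟩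
      refine ⟨j * i, ?_⟩
      show (u * u) ^ (j * i) = s * (u * u) ^ i * s⁻¹
      rw [zpow_mul, ← conj_zpow, show s * (u * u) * s⁻¹ = s * u * s⁻¹ * (s * u * s⁻¹) by group,
        ← hj, Commute.mul_zpow (Commute.refl u)]
    set D := W ⊔ Subgroup.zpowers s with hD
    have hDdesc : ∀ y ∈ D, ∃ i : ℤ, y = (u * u) ^ i ∨ y = (u * u) ^ i * s := by
      intro y hy
      have hy' : y ∈ (↑(W ⊔ Subgroup.zpowers s) : Set G) := hy
      rw [Subgroup.coe_mul_of_right_le_normalizer_left W _ hsW] at hy'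
      obtain ⟨a, ha, b, hb, rfl⟩ := Set.mem_mul.mp hy'
      obtain ⟨i, rfl⟩ := Subgroup.mem_zpowers_iff.mp ha
      obtain ⟨j, rfl⟩ := Subgroup.mem_zpowers_iff.mp hb
      refine ⟨i, ?_⟩
      rcases Int.even_or_odd' j with ⟨k, rfl | rfl⟩
      · left; rw [zpow_mul, show s ^ (2 : ℤ) = 1 by rw [zpow_two, hss], one_zpow, mul_one]
      · right
        rw [zpow_add, zpow_one, zpow_mul, show s ^ (2 : ℤ) = 1 by rw [zpow_two, hss], one_zpow,
          one_mul]
    have huu2 : ∀ i : ℤ, (u * u) ^ i = u ^ (2 * i) := fun i => by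
      rw [zpow_mul, zpow_two]
    have huE' : ∀ i : ℤ, u ^ i ∈ E := fun i => zpow_mem huE i
    have hDiff : ∀ i : ℤ, (u ^ i ∈ D ↔ (2 : ℤ) ∣ i) ∧ (u ^ i * s ∈ D ↔ (2 : ℤ) ∣ i) := by
      have hcmp : ∀ i j : ℤ, u ^ i = u ^ j → (2 : ℤ) ∣ j → (2 : ℤ) ∣ i := fun i j e hj => by
        have h1 := dvd_trans hpar (orderOf_dvd_sub_iff_zpow_eq_zpow.mpr e)
        omega
      intro i
      have hback : (2 : ℤ) ∣ i → u ^ i ∈ D := by
        rintro ⟨j, rfl⟩
        rw [← huu2]
        exact Subgroup.mem_sup_left (zpow_mem (Subgroup.mem_zpowers _) j)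
      refine ⟨⟨fun hi => ?_, hback⟩, ⟨fun hi => ?_, fun hi =>
        mul_mem (hback hi) (Subgroup.mem_sup_right (Subgroup.mem_zpowers s))⟩⟩
      · obtain ⟨j, e | e⟩ := hDdesc _ hi
        · exact hcmp i _ (e.trans (huu2 j)) (dvd_mul_right 2 j)
        · refine absurd ?_ hsE
          rw [← inv_mul_cancel_left ((u * u) ^ j) s, ← e]
          exact mul_mem (inv_mem (zpow_mem (mul_mem huE huE) j)) (huE' i)
      · obtain ⟨j, e | e⟩ := hDdesc _ hi
        · refine absurd ?_ hsE
          rw [← inv_mul_cancel_left (u ^ i) s, e]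
          exact mul_mem (inv_mem (huE' i)) (zpow_mem (mul_mem huE huE) j)
        · exact hcmp i _ ((mul_right_cancel e).trans (huu2 j)) (dvd_mul_right 2 j)
    have hDi : (D.subgroupOf (S : Subgroup G)).index = 2 := by
      rw [Subgroup.index_eq_two_iff]
      refine ⟨⟨u, huS⟩, fun a => ?_⟩
      simp only [Subgroup.mem_subgroupOf, Subgroup.coe_mul]
      by_cases haE : (a : G) ∈ E
      · obtain ⟨i, hi⟩ := hgen _ ⟨a.2, haE⟩
        rw [← hi, ← zpow_add_one, (hDiff _).1, (hDiff _).1]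
        show Xor _ _
        by_cases h2 : (2 : ℤ) ∣ i
        · exact Or.inr ⟨h2, by omega⟩
        · exact Or.inl ⟨by omega, h2⟩
      · obtain ⟨i, hi⟩ := hsplit _ a.2 haE
        obtain ⟨j, hj⟩ := hgen (s * u * s⁻¹) ⟨(S : Subgroup G).mul_mem ((S : Subgroup G).mul_mem hsS huS) ((S : Subgroup G).inv_mem hsS), hsu⟩
        have hjodd : ¬ (2 : ℤ) ∣ j := (hord j).mp (by rw [hj, BSW.orderOf_conj])
        rw [hi, show u ^ i * s * u = u ^ i * (s * u * s⁻¹) * s by group, ← hj, ← zpow_add,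
          (hDiff _).2, (hDiff _).2]
        show Xor _ _
        by_cases h2 : (2 : ℤ) ∣ i
        · exact Or.inr ⟨h2, by omega⟩
        · exact Or.inl ⟨by omega, h2⟩
    set φ := Transfer.sgnHom (D.subgroupOf (S : Subgroup G)) hDi with hφ
    have hφu : φ ⟨u, huS⟩ = -1 := by
      refine (Int.units_eq_one_or _).resolve_left fun e => ?_
      have := Transfer.sgnHom_eq_one_iff.mp e
      have h2 : (2 : ℤ) ∣ 1 := (hDiff 1).1.mp (by rw [zpow_one]; exact this)
      norm_num at h2
    have hnc := Transfer.notMem_commutator_of_controlled φ huS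
      ⟨n, by rw [← hn, pow_orderOf_eq_one]⟩ (by rw [hφu]; decide)
      (Nat.prime_two.coprime_iff_not_dvd.mpr (Sylow.not_dvd_index S)) fun k a hka => ?_
    · exact hnc (h.perfect.symm ▸ Subgroup.mem_top u)
    set y := a⁻¹ * u ^ k * a with hy
    suffices hyD : y ∈ D ↔ (2 : ℤ) ∣ (k : ℤ) by
      rw [hφu]
      rcases Nat.even_or_odd k with hk | hk
      · rw [hk.neg_one_pow]
        exact Transfer.sgnHom_eq_one_iff.mpr (hyD.mpr (by exact_mod_cast even_iff_two_dvd.mp hk))
      · rw [hk.neg_one_pow]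
        refine (Int.units_eq_one_or _).resolve_left fun e => ?_
        have h2 : 2 ∣ k := by exact_mod_cast hyD.mp (Transfer.sgnHom_eq_one_iff.mp e :)
        exact Nat.not_even_iff_odd.mpr hk (even_iff_two_dvd.mpr h2)
    have hyo : orderOf y = orderOf (u ^ k) := by
      rw [hy, show a⁻¹ * u ^ k * a = a⁻¹ * u ^ k * a⁻¹⁻¹ by group, BSW.orderOf_conj]
    by_cases hyE : y ∈ E
    · obtain ⟨i, hi⟩ := hgen y ⟨hka, hyE⟩
      rw [← hi, (hDiff i).1]
      have h1 := hord i
      rw [hi, hyo, ← zpow_natCast u k, hord (k : ℤ)] at h1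
      tauto
    obtain ⟨i, hi⟩ := hsplit y hka hyE
    rw [hi, (hDiff i).2]
    have hyy : y * y = a⁻¹ * (u ^ k * u ^ k) * a := by rw [hy]; group
    have hkk : u ^ k * u ^ k = 1 := by
      by_contra hne2
      refine hyE (h.conj_mem (h.ti a⁻¹ (u ^ k * u ^ k) (mul_mem (pow_mem huE k) (pow_mem huE k))
        hne2 ?_) (pow_mem huE k) |> fun hh => by rwa [inv_inv] at hh)
      rw [inv_inv, ← hyy, hi, hsq]
      exact zpow_mem (mul_mem huE hsu) i
    have hk2 : (2 : ℤ) ∣ (k : ℤ) := by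
      by_contra hk
      have h1 : orderOf (u ^ (k : ℤ)) = orderOf u := (hord _).mpr hk
      rw [zpow_natCast] at h1
      have h2 := orderOf_dvd_of_pow_eq_one (show (u ^ k) ^ 2 = 1 by rw [pow_two]; exact hkk)
      rw [h1, hn] at h2
      have h3 := Nat.le_of_dvd two_pos h2
      have : 2 ^ 2 ≤ 2 ^ n := Nat.pow_le_pow_right two_pos hn2
      omega
    refine iff_of_true ?_ hk2
    by_contra hi2
    refine hsodd i hi2 ?_
    rw [← hsq, ← hi, hyy, hkk, mul_one, inv_mul_cancel]
  -- `s` inverts `E`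
  have hinv : ∀ x ∈ E, s * x * s⁻¹ = x⁻¹ := by
    intro x hx
    obtain ⟨a, m, hm, hxe, hcop, hpart⟩ := Transfer.exists_pow_coprime_part (p := 2) x
    have hA : x ^ m ∈ U := by
      refine ⟨?_, pow_mem hx m⟩
      have hQ : IsPGroup 2 ↥((S : Subgroup G) ⊔ Subgroup.zpowers (x ^ m)) := by
        refine S.2.to_sup_of_normal_right' (Transfer.isPGroup_zpowers ⟨a, hpart⟩)
          fun y hy => Subgroup.mem_normalizer_fintype fun w hw => ?_
        change w ∈ Subgroup.zpowers (x ^ m) at hw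
        show y * w * y⁻¹ ∈ Subgroup.zpowers (x ^ m)
        obtain ⟨i, rfl⟩ := Subgroup.mem_zpowers_iff.mp hw
        rw [← conj_zpow]
        exact zpow_mem (h.mem_zpowers_of_orderOf (pow_mem hx m)
          (h.conj_mem (hSN hy) (pow_mem hx m)) (dvd_of_eq (BSW.orderOf_conj y _))) i
      rw [← S.is_maximal' hQ le_sup_left]
      exact Subgroup.mem_sup_right (Subgroup.mem_zpowers _)
    obtain ⟨i, hi⟩ := hgen _ hA
    have hB : s * x ^ (2 ^ a) * s⁻¹ = (x ^ (2 ^ a))⁻¹ :=
      h.inverts_odd hsN hsE (pow_mem hx _)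
        (Nat.not_even_iff_odd.mp fun he => by
          have := Nat.eq_one_of_dvd_coprimes hcop (even_iff_two_dvd.mp he) dvd_rfl
          omega)
    have hA' : s * x ^ m * s⁻¹ = (x ^ m)⁻¹ := by
      rw [← hi, ← conj_zpow, hinvu, inv_zpow]
    obtain ⟨A, B, hAB⟩ : IsCoprime (m : ℤ) ((2 ^ a : ℕ) : ℤ) := by
      rw [Int.isCoprime_iff_nat_coprime]
      simpa using ((Nat.prime_two.coprime_iff_not_dvd.mpr hm).symm.pow_right a)
    have hxdec : x = (x ^ m) ^ A * (x ^ (2 ^ a)) ^ B := by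
      rw [← zpow_natCast x m, ← zpow_natCast x (2 ^ a), ← zpow_mul, ← zpow_mul, ← zpow_add,
        mul_comm (m : ℤ), mul_comm ((2 ^ a : ℕ) : ℤ), hAB, zpow_one]
    rw [hxdec, mul_inv_rev, show s * ((x ^ m) ^ A * (x ^ 2 ^ a) ^ B) * s⁻¹ =
      s * (x ^ m) ^ A * s⁻¹ * (s * (x ^ 2 ^ a) ^ B * s⁻¹) by group, ← conj_zpow, ← conj_zpow,
      hA', hB, inv_zpow, inv_zpow]
    exact h.comm (inv_mem (zpow_mem (pow_mem hx _) _)) (inv_mem (zpow_mem (pow_mem hx _) _))
  have hset : BSW.Setting z E s := by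
    refine ⟨hz, hs2, fun a ha b hb => h.comm ha hb, hzE, hinv, huniq, hsE, fun g => ?_, ?_, ?_⟩
    · rw [hcent]
      refine ⟨fun hg => ?_, fun hg => ?_⟩
      · by_cases hgE : g ∈ E
        · exact Or.inl hgE
        · exact Or.inr (h.mul_mem_outer hg hsN hgE hsE)
      · rcases hg with hg | hg
        · exact hEN hg
        · have := mul_mem (hEN hg) hsN
          rwa [mul_assoc, hss, mul_one] at this
    · exact fun g x hx hx1 hg => (hcent g).mpr (h.ti g x hx hx1 hg)
    · -- all involutions are conjugate to `z`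
      have key : ∀ x : G, orderOf x = 2 → IsConj x z := by
        intro x hx
        obtain ⟨R, hR⟩ := (IsPGroup.of_card (p := 2) (n := 1)
          (show Nat.card (Subgroup.zpowers x) = 2 ^ 1 by
            rw [Nat.card_zpowers, hx, pow_one])).exists_le_sylow
        obtain ⟨a, ha⟩ := MulAction.exists_smul_eq G R S
        set x' := a * x * a⁻¹ with hx'
        have hx'S : x' ∈ (S : Subgroup G) := by
          rw [← ha, Sylow.coe_subgroup_smul]
          exact Subgroup.smul_mem_pointwise_smul _ _ _ (hR (Subgroup.mem_zpowers x))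
        have hxx' : IsConj x x' := isConj_iff.mpr ⟨a, rfl⟩
        refine hxx'.trans ?_
        obtain ⟨h2, h1⟩ := BSW.orderOf_two_iff.mp ((BSW.orderOf_conj a x).trans hx)
        by_cases hxE : x' ∈ E
        · rw [(huniq x' hxE h2).resolve_left h1]
        rcases Transfer.thompson_transfer S hUi h2 hx'S (fun hh => hxE hh.2) with
          ⟨M, -, hM, -⟩ | ⟨g, -, hg⟩
        · exact (h.no_index_two hM).elim
        · have := (huniq _ hg.2 (by
            rw [show g * x' * g⁻¹ * (g * x' * g⁻¹) = g * (x' * x') * g⁻¹ by group, h2, mul_one,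
              mul_inv_cancel])).resolve_left fun e => h1 (conj_eq_one_iff.mp e)
          exact isConj_iff.mpr ⟨g, this⟩
      exact fun x y hx hy => (key x hx).trans (key y hy).symm
  obtain ⟨F, i1, i2, hodd, ⟨e⟩⟩ := hset.isPSL (by
    refine le_antisymm (sup_le (fun x hx => Subgroup.mem_centralizer_singleton_iff.mpr
        ((hcent x).mpr (hEN hx))) (Subgroup.zpowers_le.mpr
        (Subgroup.mem_centralizer_singleton_iff.mpr ((hcent s).mpr hsN)))) fun g hg => ?_
    have hgN := (hcent g).mp (Subgroup.mem_centralizer_singleton_iff.mp hg)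
    by_cases hgE : g ∈ E
    · exact Subgroup.mem_sup_left hgE
    · rw [show g = g * s * s by rw [mul_assoc, hss, mul_one]]
      exact mul_mem (Subgroup.mem_sup_left (h.mul_mem_outer hgN hsN hgE hsE))
        (Subgroup.mem_sup_right (Subgroup.mem_zpowers s)))
  obtain ⟨h1, h2⟩ := h.conclude e hodd
  exact ⟨h1, F, i1, i2, h2, ⟨e⟩⟩

end CfsgLib.PrimeDegTI
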