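import Cfsg.Agent.Lib.PrimeDegTI.Setup
import Cfsg.Agent.Lib.SL2.PSL
import Cfsg.Agent.S0806

/-!
# The outer elements of the normalizer of `E`, and the final identification
-/

set_option autoImplicit false
set_option linter.unusedSectionVars false
set_option linter.style.haveILetI false

open scoped Classical commutatorElement

namespace CfsgLib.PrimeDegTI

open Cfsg CfsgLib

universe u

variable {G : Type u} [Group G] [Finite G] {p : ℕ} [Fact p.Prime] {P : Sylow p G} {E : Subgroup G}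

theorem Setting.perfect (h : Setting P E) : commutator G = ⊤ := by
  haveI := h.simple
  rcases (inferInstance : (commutator G).Normal).eq_bot_or_eq_top with e | e
  · exfalso
    have hc : ∀ a b : G, a * b = b * a := fun a b => by
      have : ⁅a, b⁆ ∈ commutator G :=
        Subgroup.commutator_mem_commutator (Subgroup.mem_top a) (Subgroup.mem_top b)
      rwa [e, Subgroup.mem_bot, commutatorElement_eq_one_iff_mul_comm] at this
    have hC := h.cP
    have htop : (P : Subgroup G) = ⊤ := by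
      rw [← hC, eq_top_iff]
      exact fun x _ => Subgroup.mem_centralizer_iff.mpr fun y _ => hc y x
    haveI : IsCyclic (P : Subgroup G) := isCyclic_of_prime_card h.cardP
    exact h.ncyc (isCyclic_of_surjective (P : Subgroup G).subtype fun x =>
      ⟨⟨x, htop ▸ Subgroup.mem_top x⟩, rfl⟩)
  · exact e

/-- A group element of odd order in `N(E)` lies in `E`. -/
theorem Setting.mem_of_odd (h : Setting P E) {g : G}
    (hg : g ∈ Subgroup.normalizer (E : Set G)) (ho : Odd (orderOf g)) : g ∈ E := by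
  by_contra hgE
  obtain ⟨k, hk⟩ := ho
  have h2 : g * g ∈ E := h.mul_mem_outer hg hg hgE hgE
  refine hgE ?_
  have : g = ((g * g) ^ k)⁻¹ := eq_inv_of_mul_eq_one_right (by
    rw [← pow_two, ← pow_mul, ← pow_succ, ← hk, pow_orderOf_eq_one])
  rw [this]
  exact inv_mem (pow_mem h2 k)

theorem Setting.conj_mem (h : Setting P E) {τ : G} (hτ : τ ∈ Subgroup.normalizer (E : Set G))
    {x : G} (hx : x ∈ E) : τ * x * τ⁻¹ ∈ E :=
  (Subgroup.mem_normalizer_iff.mp hτ x).mp hx

theorem Setting.mem_zpowers_of_orderOf (h : Setting P E) {x y : G} (hx : x ∈ E) (hy : y ∈ E)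
    (ho : orderOf y ∣ orderOf x) : y ∈ Subgroup.zpowers x := by
  haveI := h.cyc
  haveI : Fintype E := Fintype.ofFinite E
  have h1 : (⟨y, hy⟩ : E) ∈ Subgroup.zpowers (⟨x, hx⟩ : E) := by
    set a : E := ⟨x, hx⟩ with ha
    set A := (Finset.univ : Finset E).filter (fun b => b ∈ Subgroup.zpowers a)
    set B := (Finset.univ : Finset E).filter (fun b => b ^ orderOf a = 1)
    have hAB : A ⊆ B := fun b hb => by
      obtain ⟨i, rfl⟩ := Subgroup.mem_zpowers_iff.mp (Finset.mem_filter.mp hb).2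
      refine Finset.mem_filter.mpr ⟨Finset.mem_univ _, ?_⟩
      rw [← zpow_natCast, ← zpow_mul, mul_comm, zpow_mul, zpow_natCast, pow_orderOf_eq_one,
        one_zpow]
    have hA : A.card = orderOf a := by
      rw [← Fintype.card_subtype, ← Nat.card_eq_fintype_card, ← Nat.card_zpowers]
    have heq := Finset.eq_of_subset_of_card_le hAB (by
      rw [hA]
      exact IsCyclic.card_pow_eq_one_le (α := E) (orderOf_pos a))
    have hy' : (⟨y, hy⟩ : E) ∈ B := Finset.mem_filter.mpr ⟨Finset.mem_univ _, by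
      rw [ha, Subgroup.orderOf_mk]
      exact Subtype.ext (by simpa using orderOf_dvd_iff_pow_eq_one.mp ho)⟩
    rw [← heq] at hy'
    exact (Finset.mem_filter.mp hy').2
  obtain ⟨i, hi⟩ := Subgroup.mem_zpowers_iff.mp h1
  exact ⟨i, by simpa using congrArg Subtype.val hi⟩

theorem conj_self_of_mem {g x y : G} (hg : g * x * g⁻¹ = x) (hy : y ∈ Subgroup.zpowers x) :
    g * y * g⁻¹ = y := by
  obtain ⟨i, rfl⟩ := Subgroup.mem_zpowers_iff.mp hy
  rw [← conj_zpow, hg]

/-- Outer elements of `N(E)` invert the elements of odd order of `E`. -/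
theorem Setting.inverts_odd (h : Setting P E) {τ : G}
    (hτ : τ ∈ Subgroup.normalizer (E : Set G)) (hτE : τ ∉ E) {x : G} (hx : x ∈ E)
    (ho : Odd (orderOf x)) : τ * x * τ⁻¹ = x⁻¹ := by
  by_contra hne
  haveI := h.simple
  have hττ : τ * τ ∈ E := h.mul_mem_outer hτ hτ hτE hτE
  have hθθ : ∀ y ∈ E, τ * (τ * y * τ⁻¹) * τ⁻¹ = y := fun y hy => by
    rw [show τ * (τ * y * τ⁻¹) * τ⁻¹ = τ * τ * y * (τ * τ)⁻¹ by group, h.comm hττ hy,
      mul_inv_cancel_right]
  have hxt := h.conj_mem hτ hx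
  set c := x * (τ * x * τ⁻¹) with hc
  have hcE : c ∈ E := mul_mem hx hxt
  have hc1 : c ≠ 1 := fun e => hne (eq_inv_of_mul_eq_one_right e)
  have hcfix : τ * c * τ⁻¹ = c := by
    rw [hc, show τ * (x * (τ * x * τ⁻¹)) * τ⁻¹ = τ * x * τ⁻¹ * (τ * (τ * x * τ⁻¹) * τ⁻¹) by group,
      hθθ x hx, h.comm hxt hx]
  have hcodd : Odd (orderOf c) := by
    refine ho.of_dvd_nat (orderOf_dvd_of_pow_eq_one ?_)
    rw [hc, Commute.mul_pow (h.comm hx hxt), pow_orderOf_eq_one, conj_pow, pow_orderOf_eq_one]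
    simp
  obtain ⟨q, hq, hqd⟩ := Nat.exists_prime_and_dvd (fun e => hc1 (orderOf_eq_one_iff.mp e))
  haveI := Fact.mk hq
  have hqodd : Odd q := hcodd.of_dvd_nat hqd
  set d := c ^ (orderOf c / q) with hd
  have hdo : orderOf d = q := orderOf_pow_orderOf_div (orderOf_pos c).ne' hqd
  have hdE : d ∈ E := pow_mem hcE _
  have hd1 : d ≠ 1 := fun e => hq.one_lt.ne (by rw [← hdo, e, orderOf_one])
  have hdfix : τ * d * τ⁻¹ = d := conj_self_of_mem hcfix (Subgroup.npow_mem_zpowers c _)
  obtain ⟨S, hS⟩ := (IsPGroup.of_card (p := q) (n := 1)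
    (show Nat.card (Subgroup.zpowers d) = q ^ 1 by rw [Nat.card_zpowers, hdo, pow_one])).exists_le_sylow
  have hdS : d ∈ (S : Subgroup G) := hS (Subgroup.mem_zpowers d)
  haveI : Nontrivial (S : Subgroup G) :=
    ⟨⟨⟨d, hdS⟩, 1, fun e => hd1 (congrArg Subtype.val e)⟩⟩
  have hSodd : ∀ y ∈ (S : Subgroup G), Odd (orderOf y) := fun y hy => by
    obtain ⟨k, hk⟩ := IsPGroup.iff_orderOf.mp S.2 ⟨y, hy⟩
    rw [Subgroup.orderOf_mk] at hk
    rw [hk]
    exact hqodd.pow
  haveI : Nontrivial (Subgroup.center (S : Subgroup G)) := S.2.center_nontrivial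
  obtain ⟨⟨w, hw⟩, hw1⟩ := exists_ne (1 : Subgroup.center (S : Subgroup G))
  have hwc : ∀ y : (S : Subgroup G), (y : G) * w = w * y := fun y =>
    congrArg Subtype.val (Subgroup.mem_center_iff.mp hw y)
  have hwE : (w : G) ∈ E := h.mem_of_odd (h.ti (w : G) d hdE hd1 (by
      rw [← hwc ⟨d, hdS⟩, mul_inv_cancel_right]; exact hdE)) (hSodd w w.2)
  have hwne : (w : G) ≠ 1 := fun e => hw1 (Subtype.ext (Subtype.ext e))
  have hSE : (S : Subgroup G) ≤ E := fun y hy => h.mem_of_odd (h.ti y w hwE hwne (by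
      rw [hwc ⟨y, hy⟩, mul_inv_cancel_right]; exact hwE)) (hSodd y hy)
  -- `τ` centralizes `S`
  have hfix : ∀ y ∈ (S : Subgroup G), τ * y * τ⁻¹ = y := by
    intro y hy
    by_contra hy'
    set b := y⁻¹ * (τ * y * τ⁻¹) with hb
    have hyE := hSE hy
    have hbS : b ∈ (S : Subgroup G) := mul_mem (inv_mem hy)
      ((Subgroup.zpowers_le.mpr hy) (h.mem_zpowers_of_orderOf hyE (h.conj_mem hτ hyE)
        (dvd_of_eq (BSW.orderOf_conj τ y))))
    have hb1 : b ≠ 1 := fun e => hy' (inv_mul_eq_one.mp e).symm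
    have hbinv : τ * b * τ⁻¹ = b⁻¹ := by
      rw [hb, show τ * (y⁻¹ * (τ * y * τ⁻¹)) * τ⁻¹ =
          (τ * y * τ⁻¹)⁻¹ * (τ * (τ * y * τ⁻¹) * τ⁻¹) by group, hθθ y hyE]
      group
    obtain ⟨k, hk⟩ := IsPGroup.iff_orderOf.mp S.2 ⟨b, hbS⟩
    rw [Subgroup.orderOf_mk] at hk
    have hk0 : k ≠ 0 := fun e => hb1 (orderOf_eq_one_iff.mp (by rw [hk, e, pow_zero]))
    have hdb : d ∈ Subgroup.zpowers b :=
      h.mem_zpowers_of_orderOf (hSE hbS) hdE (by rw [hdo, hk]; exact dvd_pow_self q hk0)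
    obtain ⟨i, hi⟩ := Subgroup.mem_zpowers_iff.mp hdb
    have hdinv : d⁻¹ = d := by
      have := hdfix
      rw [← hi, ← conj_zpow, hbinv, inv_zpow, hi] at this
      exact this
    have : orderOf d ∣ 2 := orderOf_dvd_of_pow_eq_one (by
      rw [pow_two]; nth_rw 1 [← hdinv]; exact inv_mul_cancel d)
    rw [hdo] at this
    have := (Nat.prime_dvd_prime_iff_eq hq Nat.prime_two).mp this
    subst this
    exact (Nat.not_odd_iff_even.mpr even_two) hqodd
  have hNS : Subgroup.normalizer ((S : Subgroup G) : Set G) ≤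
      Subgroup.centralizer ((S : Subgroup G) : Set G) := by
    intro g hg
    have hgN : g ∈ Subgroup.normalizer (E : Set G) :=
      h.ti g d hdE hd1 (hSE ((Subgroup.mem_normalizer_iff.mp hg d).mp hdS))
    refine Subgroup.mem_centralizer_iff.mpr fun y hy => ?_
    by_cases hgE : g ∈ E
    · exact h.comm (hSE hy) hgE
    · have hgτ : g * τ ∈ E := h.mul_mem_outer hgN hτ hgE hτE
      have : Commute y (g * τ * τ⁻¹) := (Commute.mul_right (h.comm (hSE hy) hgτ)
        (show Commute y τ from (mul_inv_eq_iff_eq_mul.mp (hfix y hy)).symm).inv_right)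
      rwa [mul_inv_cancel_right] at this
  have hcompl := MonoidHom.ker_transferSylow_isComplement' S hNS
  have hcard := hcompl.card_mul
  rcases (inferInstance : (MonoidHom.ker (MonoidHom.transferSylow S hNS)).Normal).eq_bot_or_eq_top
    with e | e <;> rw [e] at hcard
  · rw [Subgroup.card_bot, one_mul] at hcard
    have h1 := Subgroup.card_le_of_le hSE
    have h2 := Nat.le_of_dvd Nat.card_pos h.p_dvd
    have := h.e_lt
    omega
  · rw [Subgroup.card_top] at hcard
    have h1 : Nat.card (S : Subgroup G) = 1 := by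
      have := Nat.card_pos (α := G)
      exact Nat.eq_of_mul_eq_mul_left this (hcard.trans (mul_one _).symm)
    exact absurd h1 (Finite.one_lt_card_iff_nontrivial.mpr inferInstance).ne'

/-- The identification of `G` from an isomorphism with `PSL₂`. -/
theorem Setting.conclude (h : Setting P E) {F : Type} [Field F] [Fintype F]
    (e : G ≃* Matrix.ProjectiveSpecialLinearGroup (Fin 2) F) (hodd : Odd (Fintype.card F)) :
    (p = 5 ∨ p = 7 ∨ p = 11) ∧ Fintype.card F = p := by
  have hp : p.Prime := Fact.out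
  set q := Fintype.card F with hqdef
  have hcard : 2 * Nat.card G = q * ((q - 1) * (q + 1)) := by
    have h1 := SL2.card_PSL (F := F)
    rw [← Nat.card_congr e.toEquiv, Nat.card_eq_fintype_card (α := F), ← hqdef] at h1
    have hq1 : 2 ∣ q - 1 := by obtain ⟨k, hk⟩ := hodd; exact ⟨k, by omega⟩
    rwa [Nat.gcd_eq_left hq1] at h1
  have hpd : p ∣ q * ((q - 1) * (q + 1)) := hcard ▸ dvd_mul_of_dvd_right h.p_dvd 2
  have hp5 := h.hp5
  obtain ⟨H, hH⟩ := h.idx
  by_cases hq : q ∈ ({2, 3, 5, 7, 9, 11} : Finset ℕ)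
  · simp only [Finset.mem_insert, Finset.mem_singleton] at hq
    have hsmall : ∀ a b c d f : ℕ, p ∣ 2 ^ a * 3 ^ b * 5 ^ c * 7 ^ d * 11 ^ f →
        p = 5 ∧ c ≠ 0 ∨ p = 7 ∧ d ≠ 0 ∨ p = 11 ∧ f ≠ 0 := by
      intro a b c d f hn
      have key : ∀ r k : ℕ, r.Prime → p ∣ r ^ k → p = r ∧ k ≠ 0 := fun r k hr hk =>
        ⟨(Nat.prime_dvd_prime_iff_eq hp hr).mp (hp.dvd_of_dvd_pow hk), fun e => hp.not_dvd_one (by
          rwa [e, pow_zero] at hk)⟩
      rcases hp.dvd_mul.mp hn with hn | hn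
      · rcases hp.dvd_mul.mp hn with hn | hn
        · rcases hp.dvd_mul.mp hn with hn | hn
          · rcases hp.dvd_mul.mp hn with hn | hn
            · have := (key 2 a Nat.prime_two hn).1; omega
            · have := (key 3 b Nat.prime_three hn).1; omega
          · exact Or.inl (key 5 c (by norm_num) hn)
        · exact Or.inr (Or.inl (key 7 d (by norm_num) hn))
      · exact Or.inr (Or.inr (key 11 f (by norm_num) hn))
    have hbound : ∀ n : ℕ, 2 * Nat.card G = 2 * n → n ∣ p.factorial := fun n hn => by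
      rw [show n = Nat.card G by omega]; exact h.card_dvd
    rcases hq with e' | e' | e' | e' | e' | e' <;> rw [e'] at hcard hpd <;>
      simp only [Nat.reduceSub, Nat.reduceAdd, Nat.reduceMul] at hcard hpd
    · rcases hsmall 1 1 0 0 0 (by simpa using hpd) with ⟨-, h1⟩ | ⟨-, h1⟩ | ⟨-, h1⟩ <;>
        exact absurd rfl h1
    · rcases hsmall 3 1 0 0 0 (by simpa using hpd) with ⟨-, h1⟩ | ⟨-, h1⟩ | ⟨-, h1⟩ <;>
        exact absurd rfl h1
    · rcases hsmall 3 1 1 0 0 (by simpa using hpd) with ⟨h0, -⟩ | ⟨-, h1⟩ | ⟨-, h1⟩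
      · exact ⟨Or.inl h0, e'.trans h0.symm⟩
      all_goals exact absurd rfl h1
    · rcases hsmall 4 1 0 1 0 (by simpa using hpd) with ⟨-, h1⟩ | ⟨h0, -⟩ | ⟨-, h1⟩
      · exact absurd rfl h1
      · exact ⟨Or.inr (Or.inl h0), e'.trans h0.symm⟩
      · exact absurd rfl h1
    · rcases hsmall 4 2 1 0 0 (by simpa using hpd) with ⟨h0, -⟩ | ⟨-, h1⟩ | ⟨-, h1⟩
      · exfalso
        have := hbound 360 (by omega)
        rw [h0] at this
        norm_num [Nat.factorial] at this
      all_goals exact absurd rfl h1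
    · rcases hsmall 3 1 1 0 1 (by simpa using hpd) with ⟨h0, -⟩ | ⟨-, h1⟩ | ⟨h0, -⟩
      · exfalso
        have := hbound 660 (by omega)
        rw [h0] at this
        norm_num [Nat.factorial] at this
      · exact absurd rfl h1
      · exact ⟨Or.inr (Or.inr h0), e'.trans h0.symm⟩
  · exfalso
    have hle := (Cfsg.Agent.S0806.result (F := F) rfl hq).1 (H.map e.toMonoidHom) (fun htop => by
      have h1 : (H.map e.toMonoidHom).index = H.index := Subgroup.index_map_equiv H e
      rw [htop, Subgroup.index_top, hH] at h1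
      omega)
    have h1 : (H.map e.toMonoidHom).index = H.index := Subgroup.index_map_equiv H e
    rw [h1, hH] at hle
    have hq3 : 1 < q := Fintype.one_lt_card
    rcases hp.dvd_mul.mp hpd with d | d
    · have := Nat.le_of_dvd (by omega) d; omega
    rcases hp.dvd_mul.mp d with d | d
    · have := Nat.le_of_dvd (by omega) d; omega
    · have := Nat.le_of_dvd (by omega) d
      obtain ⟨k, hk⟩ := hodd
      have h2 : 2 ∣ p := ⟨k + 1, by omega⟩
      have := (Nat.prime_dvd_prime_iff_eq Nat.prime_two hp).mp h2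
      omega

end CfsgLib.PrimeDegTI
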