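import Cfsg.Agent.Lib.SmallDegree.Lift
import Cfsg.Agent.Lib.Blocks.ValReduction
import Cfsg.Agent.Lib.Char.Eigen

/-!
# Integral representations and the fixed points of a subgroup of order `p`

For an integral representation the norm `N = ∑ R (v ^ i)` reduces to the top power of the
nilpotent `R v - 1`, so its rank bounds the dimension from below.
-/

set_option autoImplicit false
set_option linter.unusedSectionVars false

open scoped Classical

namespace CfsgLib.PrimeDegTI.Lattice

open Matrix

variable {V : ValuationSubring ℂ} {ι : Type*} [Fintype ι] [DecidableEq ι]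

theorem trace_map {S : Type*} [CommRing S] (f : V →+* S) (A : Matrix ι ι V) :
    (A.map f).trace = f A.trace := by
  simp [Matrix.trace, map_sum]

/-- Reduction does not increase the rank. -/
theorem rank_residue_le (A : Matrix ι ι V) :
    (A.map (IsLocalRing.residue V)).rank ≤ (A.map (algebraMap V ℂ)).rank := by
  rw [Matrix.rank_eq_finrank_span_cols, Matrix.rank_eq_finrank_span_cols]
  obtain ⟨s, hs, hsp, hli⟩ := exists_linearIndependent (IsLocalRing.ResidueField V)
    (Set.range (A.map (IsLocalRing.residue V)).col)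
  haveI : Fintype s := (Set.finite_range _).subset hs |>.fintype
  rw [← hsp, finrank_span_set_eq_card hli, Set.toFinset_card]
  choose c hc using fun w : s => hs w.2
  have hlift : LinearIndependent ℂ fun (w : s) => (A.map (algebraMap V ℂ)).col (c w) :=
    Blocks.ValRed.indep_lift (fun (w : s) i => A i (c w)) (by
      have e : (fun (w : s) i => IsLocalRing.residue V (A i (c w))) =
          (Subtype.val : s → ι → IsLocalRing.ResidueField V) := funext fun w => hc w
      rw [e]; exact hli)
  rw [← finrank_span_eq_card hlift]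
  exact Submodule.finrank_mono (Submodule.span_mono (by rintro _ ⟨w, rfl⟩; exact ⟨_, rfl⟩))

/-- The rank of the top power of a nilpotent matrix. -/
theorem jordan_rank {k : Type*} [Field k] (T : Matrix ι ι k) {m : ℕ} (hT : T ^ m = 0) :
    m * (T ^ (m - 1)).rank ≤ Fintype.card ι := by
  rcases Nat.eq_zero_or_pos m with rfl | hm
  · simp
  set f : Module.End k (ι → k) := Matrix.toLinAlgEquiv' T with hf
  have hpow : ∀ j, (T ^ j).rank = Module.finrank k (LinearMap.range (f ^ j)) := fun j => by
    rw [hf, ← map_pow, Matrix.rank]; rfl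
  have hstep : ∀ j, j < m → (T ^ (j + 1)).rank + (T ^ (m - 1)).rank ≤ (T ^ j).rank := by
    intro j hj
    rw [hpow, hpow, hpow]
    have h1 := (f.domRestrict (LinearMap.range (f ^ j))).finrank_range_add_finrank_ker
    have h2 : LinearMap.range (f.domRestrict (LinearMap.range (f ^ j))) =
        LinearMap.range (f ^ (j + 1)) := by
      rw [LinearMap.domRestrict, LinearMap.range_comp, Submodule.range_subtype, pow_succ', Module.End.mul_eq_comp,
        LinearMap.range_comp]
    have h3 : Module.finrank k (LinearMap.range (f ^ (m - 1))) ≤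
        Module.finrank k (LinearMap.ker (f.domRestrict (LinearMap.range (f ^ j)))) := by
      have hle : LinearMap.range (f ^ (m - 1)) ≤ LinearMap.range (f ^ j) := by
        rintro _ ⟨v, rfl⟩
        refine ⟨(f ^ (m - 1 - j)) v, ?_⟩
        rw [← Module.End.mul_apply, ← pow_add, show j + (m - 1 - j) = m - 1 by omega]
      refine LinearMap.finrank_le_finrank_of_injective
        (f := LinearMap.codRestrict _ (Submodule.inclusion hle) fun v => ?_) fun a b hab =>
          Submodule.inclusion_injective hle (congrArg Subtype.val hab)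
      rw [LinearMap.mem_ker]
      obtain ⟨v, w, rfl⟩ := v
      show f ((f ^ (m - 1)) w) = 0
      rw [← Module.End.mul_apply, ← pow_succ', Nat.sub_add_cancel hm, hf, ← map_pow, hT, map_zero,
        LinearMap.zero_apply]
    rw [h2] at h1
    omega
  have hall : ∀ j, j ≤ m → (T ^ j).rank + j * (T ^ (m - 1)).rank ≤ Fintype.card ι := by
    intro j
    induction j with
    | zero => intro _; simpa using Matrix.rank_le_card_width (T ^ 0)
    | succ j ih =>
      intro hj
      have := hstep j hj
      have := ih (by omega)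
      rw [add_mul, one_mul]
      omega
  exact (Nat.le_add_left _ _).trans (hall m le_rfl)

variable {G : Type*} [Group G] {p : ℕ} [Fact p.Prime]

/-- The norm of `⟨v⟩`. -/
noncomputable def nrm (p : ℕ) (R : G →* Matrix ι ι V) (v : G) : Matrix ι ι V :=
  ∑ i ∈ Finset.range p, R (v ^ i)

variable (R : G →* Matrix ι ι V) {v : G}

theorem map_nrm [CharP (IsLocalRing.ResidueField V) p] :
    (nrm p R v).map (IsLocalRing.residue V) =
      ((R v).map (IsLocalRing.residue V) - 1) ^ (p - 1) := by
  rw [← SmallDegree.sum_pow_eq_sub_one_pow (k := IsLocalRing.ResidueField V)]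
  show (IsLocalRing.residue V).mapMatrix (nrm p R v) = _
  rw [nrm, map_sum]
  simp only [map_pow, RingHom.mapMatrix_apply]

theorem nilpotent [CharP (IsLocalRing.ResidueField V) p] (hv : v ^ p = 1) :
    ((R v).map (IsLocalRing.residue V) - 1) ^ p = 0 := by
  have h : (Polynomial.X - 1 : Polynomial (IsLocalRing.ResidueField V)) ^ p = Polynomial.X ^ p - 1 := by
    rw [sub_pow_char, one_pow]
  have h' := congrArg (Polynomial.aeval ((R v).map (IsLocalRing.residue V))) h
  simp only [map_pow, map_sub, Polynomial.aeval_X, map_one] at h'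
  rw [h', sub_eq_zero]
  show ((IsLocalRing.residue V).mapMatrix (R v)) ^ p = 1
  rw [← map_pow, ← map_pow, hv, map_one, map_one]

/-- The reduced norm has rank at most `card ι / p`. -/
theorem rank_nrm_le [CharP (IsLocalRing.ResidueField V) p] (hv : v ^ p = 1) :
    p * ((nrm p R v).map (IsLocalRing.residue V)).rank ≤ Fintype.card ι := by
  rw [map_nrm]
  exact jordan_rank _ (nilpotent R hv)

/-- The complex rank of the norm is the mean of the character on `⟨v⟩`. -/
theorem rank_nrm_complex (hv : v ^ p = 1) :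
    (p : ℂ) * (((nrm p R v).map (algebraMap V ℂ)).rank : ℂ) =
      ∑ i ∈ Finset.range p, (((R (v ^ i)).trace : V) : ℂ) := by
  set N := (nrm p R v).map (algebraMap V ℂ) with hN
  have hp : (p : ℂ) ≠ 0 := Nat.cast_ne_zero.mpr (Fact.out : p.Prime).ne_zero
  have hNN : nrm p R v * nrm p R v = (p : V) • nrm p R v := by
    have hs : ∀ j : ℕ, R (v ^ j) * nrm p R v = nrm p R v := by
      intro j
      induction j with
      | zero => simp
      | succ j ih =>
        have h1 : R v * nrm p R v = nrm p R v := by
          rw [nrm, Finset.mul_sum]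
          simp only [← map_mul, ← pow_succ']
          have e := (Finset.sum_range_succ' (fun i => R (v ^ i)) p).symm.trans
            (Finset.sum_range_succ (fun i => R (v ^ i)) p)
          rw [pow_zero, hv] at e
          exact add_right_cancel e
        rw [pow_succ, map_mul, mul_assoc, h1, ih]
    conv_lhs => arg 1; rw [nrm]
    rw [Finset.sum_mul, Finset.sum_congr rfl fun i _ => hs i, Finset.sum_const, Finset.card_range,
      Nat.cast_smul_eq_nsmul]
  have hNN' : N * N = (p : ℂ) • N := by
    have := congrArg (fun A : Matrix ι ι V => A.map (algebraMap V ℂ)) hNN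
    simp only [Matrix.map_mul] at this
    rw [hN, this, Nat.cast_smul_eq_nsmul, Nat.cast_smul_eq_nsmul]
    exact map_nsmul (algebraMap V ℂ).mapMatrix p _
  set f := Matrix.toLin' ((p : ℂ)⁻¹ • N) with hf
  have hidem : IsIdempotentElem f := by
    show f * f = f
    rw [hf, Module.End.mul_eq_comp, ← Matrix.toLin'_mul, smul_mul_smul_comm, hNN', smul_smul]
    congr 2
    field_simp
  have htr := LinearMap.IsProj.trace (LinearMap.IsIdempotentElem.isProj_range f hidem)
  have hrange : LinearMap.range f = LinearMap.range (Matrix.toLin' N) := by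
    rw [hf, map_smul, LinearMap.range_smul _ _ (inv_ne_zero hp)]
  rw [hrange, hf, Matrix.trace_toLin'_eq, Matrix.trace_smul, smul_eq_mul] at htr
  have hrank : N.rank = Module.finrank ℂ (LinearMap.range (Matrix.toLin' N)) := by
    rw [Matrix.rank, Matrix.toLin'_apply']
  rw [hrank, ← htr, ← mul_assoc, mul_inv_cancel₀ hp, one_mul, hN]
  rw [trace_map, nrm, Matrix.trace_sum, map_sum]
  rfl

/-- A relative-projectivity relation makes the dimension at least `p` times that of the fixed
space. -/
theorem bound [CharP (IsLocalRing.ResidueField V) p] (hv : v ^ p = 1) {c : V} (hc : IsUnit c)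
    {Y : Matrix ι ι V} (hY : c • nrm p R v + nrm p R v * Y * nrm p R v = 0) :
    p * ((nrm p R v).map (algebraMap V ℂ)).rank ≤ Fintype.card ι := by
  set N := nrm p R v
  obtain ⟨u, rfl⟩ := hc
  set W : Matrix ι ι V := -((u⁻¹ : Vˣ) : V) • Y with hW
  set Z := N * W with hZ
  have hZN : Z * N = N := by
    rw [hZ, hW, Matrix.mul_smul, Matrix.smul_mul, eq_neg_of_add_eq_zero_right hY, smul_neg,
      neg_smul, neg_neg, smul_smul, Units.inv_mul, one_smul]
  have hZZ : Z * Z = Z := by
    nth_rw 2 [hZ]
    rw [← mul_assoc, hZN]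
  have hrC : (Z.map (algebraMap V ℂ)).rank = (N.map (algebraMap V ℂ)).rank := by
    refine le_antisymm ?_ ?_
    · rw [hZ, Matrix.map_mul]; exact Matrix.rank_mul_le_left _ _
    · conv_lhs => rw [← hZN, Matrix.map_mul]
      exact Matrix.rank_mul_le_left _ _
  have hadd : ∀ {k : Type} [Field k] (A : Matrix ι ι k), A * A = A →
      A.rank + (1 - A).rank = Fintype.card ι := by
    intro k _ A hA
    have h1 := (Matrix.toLin' A).finrank_range_add_finrank_ker
    have h2 : LinearMap.ker (Matrix.toLin' A) = LinearMap.range (Matrix.toLin' (1 - A)) := by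
      ext w
      rw [LinearMap.mem_ker, LinearMap.mem_range]
      refine ⟨fun hw => ⟨w, by rw [map_sub, Matrix.toLin'_one, LinearMap.sub_apply, hw]; simp⟩, ?_⟩
      rintro ⟨w', rfl⟩
      rw [← LinearMap.comp_apply, ← Matrix.toLin'_mul, mul_sub, mul_one, hA, sub_self, map_zero,
        LinearMap.zero_apply]
    rw [h2, Module.finrank_fintype_fun_eq_card] at h1
    simp only [Matrix.rank, Matrix.toLin'_apply'] at h1 ⊢
    exact h1
  have hK := hadd (Z.map (IsLocalRing.residue V)) (by rw [← Matrix.map_mul, hZZ])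
  have hC := hadd (Z.map (algebraMap V ℂ)) (by rw [← Matrix.map_mul, hZZ])
  have e1 : (1 - Z).map (IsLocalRing.residue V) = 1 - Z.map (IsLocalRing.residue V) := by
    show (IsLocalRing.residue V).mapMatrix (1 - Z) = _
    rw [map_sub, map_one]; rfl
  have e2 : (1 - Z).map (algebraMap V ℂ) = 1 - Z.map (algebraMap V ℂ) := by
    show (algebraMap V ℂ).mapMatrix (1 - Z) = _
    rw [map_sub, map_one]; rfl
  have h1 := rank_residue_le Z
  have h2 := rank_residue_le (1 - Z)
  rw [e1, e2] at h2
  have h3 : (Z.map (IsLocalRing.residue V)).rank ≤ (N.map (IsLocalRing.residue V)).rank := by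
    rw [hZ, Matrix.map_mul]; exact Matrix.rank_mul_le_left _ _
  calc p * (N.map (algebraMap V ℂ)).rank ≤ p * (N.map (IsLocalRing.residue V)).rank :=
        Nat.mul_le_mul_left p (by omega)
    _ ≤ _ := rank_nrm_le R hv

/-- In dimension less than `2 p`, a self-inverse trace function of the norm is divisible by the
maximal ideal, if an element of odd order has no fixed point on the fixed space. -/
theorem trace_nrm_mul_eq_zero [CharP (IsLocalRing.ResidueField V) p] (hv : v ^ p = 1)
    (hd : Fintype.card ι < 2 * p) {x : G} {e : ℕ} (he : Odd e) (hx : x ^ e = 1)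
    (hunit : (e : IsLocalRing.ResidueField V) ≠ 0)
    (hcomm : R x * nrm p R v = nrm p R v * R x)
    (hfix : nrm p R v * ∑ k ∈ Finset.range e, R (x ^ k) = 0)
    (hsym : ∀ g : G, (nrm p R v * R g).trace = (nrm p R v * R g⁻¹).trace) (g : G) :
    IsLocalRing.residue V (nrm p R v * R g).trace = 0 := by
  set ρ : G →* Matrix ι ι (IsLocalRing.ResidueField V) :=
    (IsLocalRing.residue V).mapMatrix.toMonoidHom.comp R with hρ
  set N := (nrm p R v).map (IsLocalRing.residue V) with hN
  have hτ : ∀ a : G, IsLocalRing.residue V (nrm p R v * R a).trace = (N * ρ a).trace := fun a => by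
    rw [hN, hρ]
    show IsLocalRing.residue V _ =
      ((IsLocalRing.residue V).mapMatrix (nrm p R v) * (IsLocalRing.residue V).mapMatrix (R a)).trace
    rw [← map_mul, RingHom.mapMatrix_apply, trace_map]
  have hsymρ : ∀ a : G, (N * ρ a).trace = (N * ρ a⁻¹).trace := fun a => by
    rw [← hτ, ← hτ, hsym]
  have hcx : ρ x * N = N * ρ x := by
    have := congrArg (IsLocalRing.residue V).mapMatrix hcomm
    simp only [map_mul] at this
    exact this
  rw [hτ]
  by_cases hN0 : N = 0
  · simp [hN0]
  have hr := rank_nrm_le R hv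
  rw [← hN] at hr
  have hr1 : N.rank ≤ 1 := by
    by_contra hlt
    have : p * 2 ≤ p * N.rank := Nat.mul_le_mul_left p (by omega)
    omega
  obtain ⟨w₀, hw₀⟩ : ∃ w, N *ᵥ w ≠ 0 := by
    by_contra hc
    push Not at hc
    exact hN0 (Matrix.ext_of_mulVec_single fun i => by rw [hc, Matrix.zero_mulVec])
  have hrange : LinearMap.range N.mulVecLin =
      Submodule.span (IsLocalRing.ResidueField V) {N *ᵥ w₀} := by
    refine (Submodule.eq_of_le_of_finrank_le
      (Submodule.span_le.mpr (Set.singleton_subset_iff.mpr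
        (LinearMap.mem_range_self N.mulVecLin w₀))) ?_).symm
    refine le_of_le_of_eq ?_ (finrank_span_singleton (K := IsLocalRing.ResidueField V) hw₀).symm
    exact hr1
  have hm : ∀ w, N *ᵥ w ∈ Submodule.span (IsLocalRing.ResidueField V) {N *ᵥ w₀} := fun w => by
    rw [← hrange]; exact LinearMap.mem_range_self N.mulVecLin w
  obtain ⟨ν, hν⟩ := Submodule.mem_span_singleton.mp (hm (ρ x *ᵥ w₀))
  rw [Matrix.mulVec_mulVec, ← hcx, ← Matrix.mulVec_mulVec] at hν
  have hxN : ρ x * N = ν • N := by
    refine Matrix.ext_of_mulVec_single fun i => ?_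
    obtain ⟨c, hc⟩ := Submodule.mem_span_singleton.mp (hm (Pi.single i 1))
    rw [← Matrix.mulVec_mulVec, Matrix.smul_mulVec, ← hc, Matrix.mulVec_smul, ← hν, smul_comm]
  have hpow : ∀ k : ℕ, ρ (x ^ k) * N = ν ^ k • N := by
    intro k
    induction k with
    | zero => simp
    | succ k ih => rw [pow_succ, map_mul, mul_assoc, hxN, Matrix.mul_smul, ih, smul_smul, pow_succ']
  have hνe : ν ^ e = 1 := by
    have h := hpow e
    rw [hx, map_one, one_mul] at h
    obtain ⟨i, j, hij⟩ : ∃ i j, N i j ≠ 0 := by
      by_contra hc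
      push Not at hc
      exact hN0 (Matrix.ext hc)
    have := congrFun (congrFun h i) j
    rw [Matrix.smul_apply, smul_eq_mul] at this
    exact mul_right_cancel₀ hij (by rw [one_mul, ← this])
  have hν1 : ν ≠ 1 := by
    intro h1
    have hcs : Commute N (∑ k ∈ Finset.range e, ρ (x ^ k)) :=
      Commute.sum_right _ _ _ fun k _ => by
        rw [map_pow]; exact Commute.pow_right (show Commute N (ρ x) from hcx.symm) k
    have h0 : N * ∑ k ∈ Finset.range e, ρ (x ^ k) = 0 := by
      have := congrArg (IsLocalRing.residue V).mapMatrix hfix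
      simp only [map_mul, map_sum, map_zero] at this
      exact this
    rw [hcs.eq, Finset.sum_mul, Finset.sum_congr rfl fun k _ => hpow k, h1] at h0
    simp only [one_pow, one_smul, Finset.sum_const, Finset.card_range] at h0
    rw [← Nat.cast_smul_eq_nsmul (IsLocalRing.ResidueField V), smul_eq_zero] at h0
    exact h0.elim hunit hN0
  have hl : ∀ (k : ℕ) (a : G), (N * ρ (x ^ k * a)).trace = ν ^ k * (N * ρ a).trace := fun k a => by
    have hck : Commute N (ρ (x ^ k)) := by
      rw [map_pow]; exact Commute.pow_right (show Commute N (ρ x) from hcx.symm) k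
    rw [map_mul, ← mul_assoc, hck.eq, hpow, Matrix.smul_mul, Matrix.trace_smul, smul_eq_mul]
  by_contra hne
  obtain ⟨j, rfl⟩ := he
  have h1 := hl 1 g
  rw [pow_one, pow_one] at h1
  have hxi : x⁻¹ = x ^ (2 * j) := inv_eq_of_mul_eq_one_right (by rw [← pow_succ', hx])
  have h2 : (N * ρ (x * g)).trace = ν ^ (2 * j) * (N * ρ g).trace := by
    rw [hsymρ (x * g), _root_.mul_inv_rev, map_mul, ← mul_assoc, Matrix.trace_mul_comm, ← mul_assoc]
    have hck : Commute N (ρ x⁻¹) := by
      rw [hxi, map_pow]; exact Commute.pow_right (show Commute N (ρ x) from hcx.symm) _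
    rw [← hck.eq, mul_assoc, ← map_mul, hxi, hl, ← hsymρ]
  have hνν : ν = ν ^ (2 * j) := mul_right_cancel₀ hne (h1.symm.trans h2)
  have h2' : ν * ν = 1 := by rw [← hνe, pow_succ, ← hνν]
  apply hν1
  rw [← hνe, pow_succ, pow_mul, pow_two, h2', one_pow, one_mul]

/-- The roots of unity of order prime to `p` generate a ring in which `p` is unramified. -/
theorem exists_div (hp : (p : IsLocalRing.ResidueField V) = 0) {n : ℕ} (hn : ¬ p ∣ n) {a : V}
    (ha : a ∈ Subring.closure {w : V | w ^ n = 1}) (h0 : IsLocalRing.residue V a = 0) :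
    ∃ b : V, a = (p : V) * b := by
  have hpp : p.Prime := Fact.out
  set I := Ideal.span {(p : V)}
  haveI : Nontrivial (V ⧸ I) := Ideal.Quotient.nontrivial_iff.mpr fun e => by
    have h1 : (1 : V) ∈ I := e ▸ Submodule.mem_top
    obtain ⟨c, hc⟩ := Ideal.mem_span_singleton'.mp h1
    have := congrArg (IsLocalRing.residue V) hc
    rw [map_mul, map_natCast, hp, mul_zero, map_one] at this
    exact zero_ne_one this
  have hp0 : (p : V ⧸ I) = 0 := by
    rw [← map_natCast (Ideal.Quotient.mk I), Ideal.Quotient.eq_zero_iff_mem]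
    exact Ideal.mem_span_singleton_self _
  haveI : CharP (V ⧸ I) p := by
    obtain ⟨q, hq⟩ := CharP.exists (V ⧸ I)
    rcases (Nat.dvd_prime hpp).mp ((CharP.cast_eq_zero_iff (V ⧸ I) q p).mp hp0) with e | e
    · exact absurd e (CharP.char_ne_one (V ⧸ I) q)
    · exact e ▸ hq
  haveI : ExpChar (V ⧸ I) p := ExpChar.prime hpp
  set f := n.totient with hf
  set q := p ^ f with hq
  have hcop : p.Coprime n := hpp.coprime_iff_not_dvd.mpr hn
  have hf0 : f ≠ 0 := (Nat.totient_pos.mpr (Nat.pos_of_ne_zero fun e => hn (by rw [e]; exact dvd_zero p))).ne'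
  have hmem : a ∈ RingHom.eqLocus ((iterateFrobenius (V ⧸ I) p f).comp (Ideal.Quotient.mk I))
      (Ideal.Quotient.mk I) := by
    refine Subring.closure_le.mpr (fun w (hw : w ^ n = 1) => ?_) ha
    show iterateFrobenius (V ⧸ I) p f (Ideal.Quotient.mk I w) = Ideal.Quotient.mk I w
    rw [iterateFrobenius_def, ← map_pow]
    congr 1
    have hmod : p ^ f ≡ 1 [MOD n] := Nat.ModEq.pow_totient hcop
    obtain ⟨c, hc⟩ := (Nat.modEq_iff_dvd' (Nat.one_le_pow _ _ hpp.pos)).mp hmod.symm
    rw [show p ^ f = n * c + 1 by have := Nat.one_le_pow f p hpp.pos; omega, pow_succ, pow_mul, hw,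
      one_pow, one_mul]
  change iterateFrobenius (V ⧸ I) p f (Ideal.Quotient.mk I a) = Ideal.Quotient.mk I a at hmem
  rw [iterateFrobenius_def, ← map_pow, Ideal.Quotient.eq, Ideal.mem_span_singleton'] at hmem
  obtain ⟨c, hc⟩ := hmem
  have hq1 : 1 < q := Nat.one_lt_pow hf0 hpp.one_lt
  obtain ⟨u, hu⟩ : IsUnit (a ^ (q - 1) - 1) := by
    by_contra hnu
    have hz := (IsLocalRing.residue_eq_zero_iff _).mpr hnu
    rw [map_sub, map_pow, h0, zero_pow (by omega), map_one, zero_sub, neg_eq_zero] at hz
    exact one_ne_zero hz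
  refine ⟨c * ((u⁻¹ : Vˣ) : V), ?_⟩
  have e : a ^ q - a = a * (a ^ (q - 1) - 1) := by
    rw [mul_sub, mul_one, ← pow_succ', Nat.sub_add_cancel hq1.le]
  rw [← mul_assoc, mul_comm (p : V) c, hc, e, ← hu, mul_assoc, Units.mul_inv, mul_one]

/-- Character values at elements of order dividing `n`. -/
theorem value_mem [Finite G] {W : Type*} [AddCommGroup W] [Module ℂ W] [FiniteDimensional ℂ W]
    (ρ : Representation ℂ G W) {g : G} {n : ℕ} (hn : n ≠ 0) (hg : orderOf g ∣ n) :
    ∃ a ∈ Subring.closure {w : V | w ^ n = 1}, (a : ℂ) = ρ.character g := by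
  obtain ⟨b, μ, hμ, hb⟩ := Char.exists_eigenBasis ρ g
  have hmem : ∀ i, μ i ∈ V := fun i => by
    have hint : IsIntegral V (μ i) := by
      refine IsIntegral.of_pow (orderOf_pos g) ?_
      rw [hμ i]; exact isIntegral_one
    obtain ⟨y, hy⟩ := IsIntegrallyClosed.isIntegral_iff.mp hint
    exact hy ▸ y.2
  refine ⟨∑ i, ⟨μ i, hmem i⟩, sum_mem fun i _ => Subring.subset_closure ?_, ?_⟩
  · obtain ⟨c, rfl⟩ := hg
    refine Subtype.ext ?_
    simp [pow_mul, hμ i]
  · rw [Representation.character, Char.trace_eq_sum_of_diag b _ μ fun i => by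
      simpa using hb i 1]
    push_cast
    rfl

end CfsgLib.PrimeDegTI.Lattice
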