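import Cfsg.Agent.Lib.PrimeDegTI.Lattice
import Cfsg.Agent.Lib.Blocks.CentralChar
import Cfsg.Agent.Lib.Blocks.PrimeDefect.Modular
import Cfsg.Agent.Lib.Blocks.BrauerFeit
import Cfsg.Agent.Lib.Char.Counting

/-!
# Integral models of irreducible characters, and the double coset decomposition
-/

set_option autoImplicit false
set_option linter.unusedSectionVars false
set_option linter.style.haveILetI false

open scoped Classical

namespace CfsgLib.PrimeDegTI

open Cfsg CfsgLib
open scoped ComplexConjugate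

universe u

variable {G : Type u} [Group G] [Fintype G]

/-- A valuation ring with residue characteristic `p`. -/
theorem exists_residue_char {p : ℕ} (hp : p.Prime) :
    ∃ V : ValuationSubring ℂ, CharP (IsLocalRing.ResidueField V) p := by
  haveI := Fact.mk hp
  obtain ⟨M, hM⟩ := Blocks.exists_isPModular hp
  haveI := Blocks.isPrime_of_isPModular hM
  obtain ⟨V, -, hI⟩ := Blocks.ValRed.exists_valuation M
  exact ⟨V, Blocks.PrimeDefect.charP_residue hM hI⟩

/-- An irreducible character is afforded by an integral representation, and the other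
irreducible characters annihilate it. -/
theorem exists_model (V : ValuationSubring ℂ) (χ : IrrCharacter G) :
    ∃ (ι : Type) (_ : Fintype ι) (_ : DecidableEq ι) (R : G →* Matrix ι ι V),
      Fintype.card ι = charDegree (χ : G → ℂ) ∧ (∀ g, (((R g).trace : V) : ℂ) = (χ : G → ℂ) g) ∧
      ∀ ψ : IrrCharacter G, ψ ≠ χ →
        ∑ g : G, (ψ : G → ℂ) g⁻¹ • (R g).map (algebraMap V ℂ) = 0 := by
  obtain ⟨n, ρ, hρ, hχ⟩ := χ.2
  obtain ⟨ι, hι, hι', b, hb⟩ := Blocks.ValRed.exists_integral_basis V ρ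
  let R : G →* Matrix ι ι V :=
    { toFun := fun g => Matrix.of fun i j => ⟨_, hb g i j⟩
      map_one' := by
        ext i j
        simp [Matrix.one_apply]
        split_ifs <;> simp
      map_mul' := fun g h => by
        ext i j
        simp [LinearMap.toMatrix_mul, Matrix.mul_apply] }
  have hR : ∀ g, (R g).map (algebraMap V ℂ) = LinearMap.toMatrix b b (ρ g) := fun g => rfl
  refine ⟨ι, hι, hι', R, ?_, fun g => ?_, fun ψ hψ => ?_⟩
  · have h1 : (charDegree (χ : G → ℂ) : ℂ) = (Fintype.card ι : ℂ) := by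
      rw [← (Blocks.irr_degree_eq χ).1, ← hχ, ρ.char_one, Module.finrank_eq_card_basis b]
    exact_mod_cast h1.symm
  · rw [← hχ, Representation.character, LinearMap.trace_eq_matrix_trace ℂ b, ← hR,
      Lattice.trace_map]
    rfl
  · haveI := hρ
    have hcf : IsClassFunction G fun g => (ψ : G → ℂ) g⁻¹ := fun g h => by
      show (ψ : G → ℂ) (h * g * h⁻¹)⁻¹ = _
      rw [show (h * g * h⁻¹)⁻¹ = h * g⁻¹ * h⁻¹ by group]
      exact Blocks.irr_classFunction ψ _ _
    have h1 := Blocks.actFun_eq_omega ρ hcf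
    have h0 : Blocks.omega ρ.character (fun g => (ψ : G → ℂ) g⁻¹) = 0 := by
      rw [hχ, Blocks.omega]
      have h2 := Char.classInner_irr_ne χ.2 ψ.2 (fun e => hψ (Subtype.ext e.symm))
      rw [classInner, mul_eq_zero] at h2
      have h3 := h2.resolve_left (inv_ne_zero (Nat.cast_ne_zero.mpr Nat.card_pos.ne'))
      rw [show (∑ g : G, (ψ : G → ℂ) g⁻¹ * (χ : G → ℂ) g) =
          ∑ g : G, (χ : G → ℂ) g * conj ((ψ : G → ℂ) g) from
        Finset.sum_congr rfl fun g _ => by rw [Char.irr_inv, mul_comm], h3, zero_div]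
    rw [h0, zero_smul, Blocks.actFun] at h1
    have h4 := congrArg (LinearMap.toMatrix b b) h1
    rw [map_zero, map_sum] at h4
    rw [← h4]
    exact Finset.sum_congr rfl fun g _ => by rw [map_smul, hR]

/-- A sum over a cyclic subgroup as a sum over exponents. -/
theorem sum_range_eq_sum_zpowers {M : Type*} [AddCommMonoid M] {x : G} {H : Subgroup G}
    (hH : Subgroup.zpowers x = H) {n : ℕ} (hn : orderOf x = n) (f : G → M) :
    ∑ i ∈ Finset.range n, f (x ^ i) = ∑ y : H, f y := by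
  subst hH hn
  refine Finset.sum_bij (fun i _ => (⟨x ^ i, Subgroup.npow_mem_zpowers x i⟩ : Subgroup.zpowers x))
    (fun _ _ => Finset.mem_univ _) (fun a ha b hb e => ?_) (fun y _ => ?_) (fun _ _ => rfl)
  · exact pow_injOn_Iio_orderOf (Finset.mem_range.mp ha) (Finset.mem_range.mp hb)
      (congrArg Subtype.val e)
  · have hy : (y : G) ∈ Submonoid.powers x := mem_powers_iff_mem_zpowers.mpr y.2
    rw [mem_powers_iff_mem_range_orderOf, Finset.mem_image] at hy
    obtain ⟨i, hi, e⟩ := hy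
    exact ⟨i, hi, Subtype.ext e⟩

/-- The part off the normalizer of a sum which is invariant under `Q` on both sides factors
through the sums over `Q`. -/
theorem exists_sum_off {S : Type*} [CommRing S] {ι : Type*} [Fintype ι] [DecidableEq ι]
    (Q : Subgroup G) [Fintype Q] (R : G →* Matrix ι ι S) (f : G → S)
    (hl : ∀ q ∈ Q, ∀ g, f (q * g) = f g) (hr : ∀ q ∈ Q, ∀ g, f (g * q) = f g)
    (hfree : ∀ g ∉ Subgroup.normalizer (Q : Set G), ∀ q ∈ Q, q ≠ 1 → g * q * g⁻¹ ∉ Q) :
    ∃ Y : Matrix ι ι S,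
      ∑ g ∈ Finset.univ.filter (fun g => g ∉ Subgroup.normalizer (Q : Set G)), f g • R g =
        (∑ q : Q, R q) * Y * (∑ q : Q, R q) := by
  set N := Subgroup.normalizer (Q : Set G) with hN
  have hQN : Q ≤ N := Subgroup.le_normalizer
  set rep : G → G := fun g => (DoubleCoset.mk Q Q g : DoubleCoset.Quotient (Q : Set G) Q).out
  have hrep : ∀ g, ∃ a ∈ Q, ∃ b ∈ Q, rep g = a * g * b := fun g => by
    obtain ⟨a, b, ha, hb, e⟩ := DoubleCoset.mk_out_eq_mul Q Q g
    exact ⟨a, ha, b, hb, e⟩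
  have hrepmul : ∀ a ∈ Q, ∀ b ∈ Q, ∀ g, rep (a * g * b) = rep g := fun a ha b hb g => by
    show (DoubleCoset.mk Q Q (a * g * b) : DoubleCoset.Quotient (Q : Set G) Q).out = _
    exact congrArg Quotient.out ((DoubleCoset.eq Q Q g (a * g * b)).mpr ⟨a, ha, b, hb, rfl⟩).symm
  have hrr : ∀ g, rep (rep g) = rep g := fun g => by
    obtain ⟨a, ha, b, hb, e⟩ := hrep g
    rw [e, hrepmul a ha b hb, e]
  set R0 := Finset.univ.filter (fun g => g ∉ N ∧ rep g = g) with hR0
  refine ⟨∑ g ∈ R0, f g • R g, ?_⟩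
  symm
  have hterm : ∀ g : G, (∑ q : Q, R q) * (f g • R g) * (∑ q : Q, R q) =
      ∑ w : Q × Q, f g • R ((w.1 : G) * g * w.2) := fun g => by
    rw [Finset.sum_mul, Finset.sum_mul, Fintype.sum_prod_type]
    refine Finset.sum_congr rfl fun a _ => ?_
    rw [Finset.mul_sum]
    refine Finset.sum_congr rfl fun b _ => ?_
    rw [Matrix.mul_smul, Matrix.smul_mul, ← map_mul, ← map_mul]
  rw [Finset.mul_sum R0, Finset.sum_mul R0, Finset.sum_congr rfl fun g _ => hterm g,
    ← Finset.sum_product']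
  refine Finset.sum_bij (fun w _ => (w.2.1 : G) * w.1 * w.2.2) (fun w hw => ?_)
    (fun w hw w' hw' e => ?_) (fun g hg => ?_) (fun w hw => ?_)
  · simp only [Finset.mem_product, Finset.mem_univ, and_true, hR0, true_and, Finset.mem_filter] at hw ⊢
    intro hm
    refine hw.1 ?_
    have := N.mul_mem (N.mul_mem (N.inv_mem (hQN w.2.1.2)) hm) (N.inv_mem (hQN w.2.2.2))
    simpa [mul_assoc] using this
  · obtain ⟨g, a, b⟩ := w
    obtain ⟨g', a', b'⟩ := w'
    simp only [Finset.mem_product, Finset.mem_univ, and_true, hR0, true_and, Finset.mem_filter] at hw hw'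
    simp only at e
    have hg : g = g' := by
      rw [← hw.2, ← hw'.2, ← hrepmul a a.2 b b.2 g, e, hrepmul a' a'.2 b' b'.2 g']
    subst hg
    have h1 : g * ((b : G) * (b' : G)⁻¹) * g⁻¹ = (a : G)⁻¹ * a' := by
      calc g * ((b : G) * (b' : G)⁻¹) * g⁻¹ = (a : G)⁻¹ * ((a : G) * g * b) * (b' : G)⁻¹ * g⁻¹ := by
            group
        _ = (a : G)⁻¹ * a' := by rw [e]; group
    have h2 : (b : G) * (b' : G)⁻¹ = 1 := by
      by_contra hne
      exact hfree g hw.1 _ (Q.mul_mem b.2 (Q.inv_mem b'.2)) hne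
        (h1 ▸ Q.mul_mem (Q.inv_mem a.2) a'.2)
    rw [h2, mul_one, mul_inv_cancel] at h1
    have ha : a = a' := Subtype.ext (inv_mul_eq_one.mp h1.symm)
    have hb : b = b' := Subtype.ext (mul_inv_eq_one.mp h2)
    rw [ha, hb]
  · obtain ⟨a, ha, b, hb, e⟩ := hrep g
    have hgN : g ∉ N := (Finset.mem_filter.mp hg).2
    refine ⟨(rep g, (⟨a⁻¹, Q.inv_mem ha⟩, ⟨b⁻¹, Q.inv_mem hb⟩)), ?_, ?_⟩
    · simp only [Finset.mem_product, Finset.mem_univ, and_true, hR0, true_and, Finset.mem_filter]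
      refine ⟨fun hm => hgN ?_, hrr g⟩
      rw [e] at hm
      have := N.mul_mem (N.mul_mem (N.inv_mem (hQN ha)) hm) (N.inv_mem (hQN hb))
      simpa [mul_assoc] using this
    · show a⁻¹ * rep g * b⁻¹ = g
      rw [e]; group
  · rw [hr _ w.2.2.2, hl _ w.2.1.2]

end CfsgLib.PrimeDegTI
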