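import Cfsg.Agent.Lib.PrimeDegTI.EChars
import Cfsg.Agent.Lib.PrimeDegTI.Model
import Cfsg.Agent.Lib.BrauerTuan.Data
import Cfsg.Agent.Lib.Char.Kernel
import Cfsg.Agent.S4503
import Cfsg.Agent.S4504

/-!
# A complement of odd order

The characters of degree `p + 1` give an integral spherical function for the normalizer of `P`, so
every other character has degree at least `p` times its multiplicity on the fixed space of `P`.
-/

set_option autoImplicit false
set_option linter.unusedSectionVars false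
set_option linter.style.haveILetI false
set_option maxHeartbeats 800000

open scoped Classical

namespace CfsgLib.PrimeDegTI

open Cfsg CfsgLib
open scoped ComplexConjugate

universe u

variable {G : Type u} [Group G] [Fintype G] {p : ℕ} [Fact p.Prime] {P : Sylow p G} {E : Subgroup G}

theorem Setting.exists_gen (h : Setting P E) :
    ∃ v : G, orderOf v = p ∧ Subgroup.zpowers v = (P : Subgroup G) := by
  obtain ⟨⟨v, hv⟩, hvo⟩ := exists_prime_orderOf_dvd_card' (G := (P : Subgroup G)) p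
    (dvd_of_eq h.cardP.symm)
  rw [Subgroup.orderOf_mk] at hvo
  exact ⟨v, hvo, Subgroup.eq_of_le_of_card_ge (Subgroup.zpowers_le.mpr hv)
    (by rw [Nat.card_zpowers, hvo, h.cardP])⟩

theorem Setting.conj_P (h : Setting P E) {g : G} (hg : g ∈ E) {y : G} (hy : y ∈ (P : Subgroup G)) :
    g * y * g⁻¹ ∈ (P : Subgroup G) :=
  (Subgroup.mem_normalizer_iff.mp (h.hNP ▸ Subgroup.mem_sup_right hg) y).mp hy

/-- A nontrivial element of `E` fixes only the identity of `P`. -/
theorem Setting.fpf (h : Setting P E) {x y : G} (hx : x ∈ E) (hx1 : x ≠ 1)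
    (hy : y ∈ (P : Subgroup G)) (hxy : x * y = y * x) : y = 1 := by
  by_contra hy1
  have hz : Subgroup.zpowers y = (P : Subgroup G) :=
    Subgroup.eq_of_le_of_card_ge (Subgroup.zpowers_le.mpr hy) (by
      rw [h.cardP, Nat.card_zpowers]
      have h1 := Subgroup.orderOf_dvd_natCard (P : Subgroup G) hy
      rw [h.cardP] at h1
      rcases (Nat.dvd_prime Fact.out).mp h1 with e | e
      · exact absurd (orderOf_eq_one_iff.mp e) hy1
      · rw [e])
  have hxP : x ∈ (P : Subgroup G) := h.cP.le (Subgroup.mem_centralizer_iff.mpr fun w hw => by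
    rw [SetLike.mem_coe, ← hz] at hw
    obtain ⟨i, rfl⟩ := Subgroup.mem_zpowers_iff.mp hw
    exact ((show Commute x y from hxy).zpow_right i).eq.symm)
  exact hx1 (Subgroup.mem_bot.mp (h.hPE ▸ Subgroup.mem_inf.mpr ⟨hxP, hx⟩))

/-- The elements of a coset `P x` are conjugate. -/
theorem Setting.isConj_coset (h : Setting P E) {x y : G} (hx : x ∈ E) (hx1 : x ≠ 1)
    (hy : y ∈ (P : Subgroup G)) : ∃ w : G, w * x * w⁻¹ = y * x := by
  let f : ↥(P : Subgroup G) → ↥(P : Subgroup G) := fun w =>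
    ⟨(w : G) * (x * (w : G)⁻¹ * x⁻¹), (P : Subgroup G).mul_mem w.2
      (h.conj_P hx ((P : Subgroup G).inv_mem w.2))⟩
  have hf : Function.Injective f := fun a b e => by
    have e' : (a : G) * (x * (a : G)⁻¹ * x⁻¹) = b * (x * (b : G)⁻¹ * x⁻¹) := congrArg Subtype.val e
    have h1 : ((b : G))⁻¹ * a = 1 := by
      refine h.fpf hx hx1 ((P : Subgroup G).mul_mem ((P : Subgroup G).inv_mem b.2) a.2) ?_
      calc x * ((b : G)⁻¹ * a) = (b : G)⁻¹ * ((b : G) * (x * (b : G)⁻¹ * x⁻¹)) * x * a := by group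
        _ = (b : G)⁻¹ * ((a : G) * (x * (a : G)⁻¹ * x⁻¹)) * x * a := by rw [e']
        _ = (b : G)⁻¹ * a * x := by group
    exact Subtype.ext (inv_mul_eq_one.mp h1).symm
  obtain ⟨w, hw⟩ := (Finite.injective_iff_surjective.mp hf) ⟨y, hy⟩
  refine ⟨w, ?_⟩
  have := congrArg Subtype.val hw
  dsimp only [f] at this
  rw [← this]
  group

/-- The data of the principal block, with the family in it. -/
structure Blk (P : Sylow p G) (E : Subgroup G) (D : BrauerTuan.Data P) (St : IrrCharacter G)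
    (Ψ : Finset (IrrCharacter G)) : Prop where
  e_eq : D.e = Nat.card E
  t_two : 2 ≤ D.t
  trivX : Blocks.trivIrr G ∈ D.X
  trivδ : D.δ (Blocks.trivIrr G) = 1
  ΨX : ∀ ψ ∈ Ψ, ψ ∈ D.X ∧ D.δ ψ = 1
  St_out : St ∉ D.X ∧ St ∉ D.Y
  ΨY : ∀ ψ ∈ Ψ, ψ ∉ D.Y
  TY : Blocks.trivIrr G ∉ D.Y

theorem Setting.e_three (h : Setting P E) (he : Odd (Nat.card E)) :
    3 ≤ Nat.card E ∧ 2 * Nat.card E + 1 ≤ p := by
  obtain ⟨k, hk⟩ := he
  have h2 := h.two_le
  obtain ⟨c, hc⟩ := h.dvd
  have h5 := h.hp5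
  refine ⟨by omega, ?_⟩
  rcases Nat.lt_or_ge c 2 with hc2 | hc2
  · exfalso
    have : c = 0 ∨ c = 1 := by omega
    rcases this with rfl | rfl
    · omega
    · obtain ⟨j, hj⟩ := (Fact.out : p.Prime).odd_of_ne_two (by omega)
      omega
  · have : Nat.card E * 2 ≤ Nat.card E * c := Nat.mul_le_mul_left _ hc2
    omega

theorem Setting.exists_blk (h : Setting P E) (he : Odd (Nat.card E)) {St : IrrCharacter G}
    {Ψ : Finset (IrrCharacter G)} (hF : Fam P E St Ψ) :
    ∃ D : BrauerTuan.Data P, Blk P E D St Ψ := by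
  haveI := h.simple
  have hp : p.Prime := Fact.out
  obtain ⟨D⟩ := BrauerTuan.nonempty_data h.ncyc P h.cardP
  obtain ⟨he3, he2⟩ := h.e_three he
  have hp5 := h.hp5
  have hDe : D.e = Nat.card E := by
    have h1 := D.card_G
    rw [h.cP, h.cardP] at h1
    have h2 := (Subgroup.normalizer ((P : Subgroup G) : Set G)).card_mul_index
    rw [h.card_NP, show (Subgroup.normalizer ((P : Subgroup G) : Set G)).index = 1 + D.n * p by
      rw [← D.card_sylow, Sylow.card_eq_index_normalizer P]; rfl, h1] at h2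
    refine Nat.eq_of_mul_eq_mul_right (show 0 < (1 + D.n * p) * p from Nat.mul_pos (by omega) hp.pos) ?_
    rw [← mul_assoc, ← h2]; ring
  have ht : 2 ≤ D.t := by
    have h1 := D.het
    rw [hDe] at h1
    by_contra hlt
    have h2 : D.t = 1 := by have := D.one_le_t; omega
    rw [h2, mul_one] at h1
    omega
  set T := Blocks.trivIrr G with hT
  have hTdeg : charDegree (T : G → ℂ) = 1 := by
    have h1 := (Blocks.irr_degree_eq T).1
    have h2 : (charDegree (T : G → ℂ) : ℂ) = 1 := by rw [← h1]; rfl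
    exact_mod_cast h2
  obtain ⟨v, hvo, hvz⟩ := h.exists_gen
  have hvP : v ∈ (P : Subgroup G) := hvz ▸ Subgroup.mem_zpowers v
  have hv1 : v ≠ 1 := fun e => hp.one_lt.ne (by rw [← hvo, e, orderOf_one])
  have hTY : T ∉ D.Y := by
    intro hTY
    obtain ⟨χ, hχ, hne⟩ := Finset.exists_mem_ne (s := D.Y) (by rw [D.card_Y]; omega) T
    have h1 : charDegree (χ : G → ℂ) = 1 := by rw [D.degY_eq χ hχ T hTY, hTdeg]
    have hχ1 : (χ : G → ℂ) 1 = 1 := by rw [(Blocks.irr_degree_eq χ).1, h1, Nat.cast_one]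
    set l := Char.linearHom (Char.isCharacter_of_isIrr χ.2) hχ1
    refine hne (Subtype.ext (funext fun g => ?_))
    have hg : g ∈ commutator G := h.perfect.symm ▸ Subgroup.mem_top g
    have hg1 : l g = 1 := Abelianization.commutator_subset_ker l hg
    rw [← Char.linearHom_apply (Char.isCharacter_of_isIrr χ.2) hχ1 g]
    show ((l g : ℂˣ) : ℂ) = 1
    rw [hg1, Units.val_one]
  have hTX : T ∈ D.X := (Finset.mem_union.mp D.triv).resolve_right hTY
  have hTδ : D.δ T = 1 := by
    have := D.valX T hTX v hvP hv1 1 (one_mem _) (by rw [orderOf_one]; exact hp.not_dvd_one)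
    have e : (1 : ℂ) = (D.δ T : ℂ) := this
    exact_mod_cast e.symm
  have hout : ∀ χ : IrrCharacter G, χ ∉ D.X → χ ∉ D.Y → p ∣ charDegree (χ : G → ℂ) := by
    intro χ hX hY
    obtain ⟨V, hV⟩ := exists_residue_char hp
    obtain ⟨ι, _, _, R, hcard, htr, -⟩ := exists_model V χ
    have h1 := Lattice.rank_nrm_complex (p := p) R (v := v) (by rw [← hvo, pow_orderOf_eq_one])
    simp only [htr] at h1
    rw [Finset.sum_eq_single_of_mem 0 (Finset.mem_range.mpr hp.pos) (fun i hi hi0 => by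
      refine D.out h.cP χ hX hY _ (Subgroup.pow_mem _ hvP i) fun e => ?_
      have := Nat.le_of_dvd (Nat.pos_of_ne_zero hi0) (orderOf_dvd_of_pow_eq_one e)
      rw [hvo] at this
      exact absurd (Finset.mem_range.mp hi) (by omega)), pow_zero,
      (Blocks.irr_degree_eq χ).1] at h1
    exact ⟨_, by exact_mod_cast h1.symm⟩
  have hΨ : ∀ ψ ∈ Ψ, ψ ∉ D.Y := by
    intro ψ hψ hY
    have h1 := D.degY ψ hY
    rw [hF.deg ψ hψ, hDe] at h1
    obtain ⟨c, hc⟩ := Int.modEq_iff_dvd.mp h1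
    rcases D.hε with e | e <;> rw [e] at hc <;> push_cast at hc
    · have h3 : (p : ℤ) ∣ (Nat.card E : ℤ) - 1 := ⟨c + 1, by linear_combination hc⟩
      have := Int.le_of_dvd (by omega) h3
      omega
    · have h3 : (p : ℤ) ∣ (Nat.card E : ℤ) + 1 := ⟨-(c + 1), by linear_combination -hc⟩
      have := Int.le_of_dvd (by omega) h3
      omega
  refine ⟨D, hDe, ht, hTX, hTδ, fun ψ hψ => ?_, ⟨fun hX => ?_, fun hY => ?_⟩, hΨ, hTY⟩
  · have hX : ψ ∈ D.X := by
      by_contra hX
      have h1 := hout ψ hX (hΨ ψ hψ)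
      rw [hF.deg ψ hψ] at h1
      exact hp.not_dvd_one ((Nat.dvd_add_right dvd_rfl).mp h1)
    refine ⟨hX, (D.hδ ψ hX).resolve_right fun e => ?_⟩
    have h1 := D.degX ψ hX
    rw [hF.deg ψ hψ, e] at h1
    obtain ⟨c, hc⟩ := Int.modEq_iff_dvd.mp h1
    push_cast at hc
    have h3 : (p : ℤ) ∣ 2 := ⟨-(c + 1), by linear_combination -hc⟩
    have := Int.le_of_dvd (by omega) h3
    omega
  · have h1 := D.degX St hX
    rw [hF.St_deg] at h1
    obtain ⟨c, hc⟩ := Int.modEq_iff_dvd.mp h1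
    rcases D.hδ St hX with e | e <;> rw [e] at hc
    · have := Int.le_of_dvd (by omega) (show (p : ℤ) ∣ 1 from ⟨c + 1, by linear_combination hc⟩)
      omega
    · have := Int.le_of_dvd (by omega) (show (p : ℤ) ∣ 1 from ⟨-(c + 1), by linear_combination -hc⟩)
      omega
  · have h1 := D.degY St hY
    rw [hF.St_deg, hDe] at h1
    obtain ⟨c, hc⟩ := Int.modEq_iff_dvd.mp h1
    rcases D.hε with e | e <;> rw [e] at hc
    · have := Int.le_of_dvd (by omega)
        (show (p : ℤ) ∣ Nat.card E from ⟨c + 1, by linear_combination hc⟩)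
      omega
    · have := Int.le_of_dvd (by omega)
        (show (p : ℤ) ∣ Nat.card E from ⟨-(c + 1), by linear_combination -hc⟩)
      omega

variable {D : BrauerTuan.Data P} {St : IrrCharacter G} {Ψ : Finset (IrrCharacter G)}

theorem Setting.psi_singular (h : Setting P E) (hB : Blk P E D St Ψ) {ψ : IrrCharacter G}
    (hψ : ψ ∈ Ψ) {g : G} (hg : p ∣ orderOf g) : (ψ : G → ℂ) g = 1 := by
  obtain ⟨c, hc, hg1⟩ := h.singular hg
  obtain ⟨hX, hδ⟩ := hB.ΨX ψ hψ
  have h1 := D.valX ψ hX _ hc (fun e => hg1 (conj_eq_one_iff.mp e)) 1 (one_mem _)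
    (by rw [orderOf_one]; exact (Fact.out : p.Prime).not_dvd_one)
  rw [mul_one, Blocks.irr_classFunction ψ g c, hδ, Int.cast_one] at h1
  exact h1

theorem Setting.psi_P (h : Setting P E) (hB : Blk P E D St Ψ) {ψ : IrrCharacter G}
    (hψ : ψ ∈ Ψ) {y : G} (hy : y ∈ (P : Subgroup G)) (hy1 : y ≠ 1) : (ψ : G → ℂ) y = 1 := by
  refine h.psi_singular hB hψ ?_
  have h1 := Subgroup.orderOf_dvd_natCard (P : Subgroup G) hy
  rw [h.cardP] at h1
  rcases (Nat.dvd_prime Fact.out).mp h1 with e | e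
  · exact absurd (orderOf_eq_one_iff.mp e) hy1
  · rw [e]

theorem Setting.sum_psi_P (h : Setting P E) (hF : Fam P E St Ψ) (hB : Blk P E D St Ψ)
    {ψ : IrrCharacter G} (hψ : ψ ∈ Ψ) :
    ∑ y : (P : Subgroup G), (ψ : G → ℂ) y = 2 * (p : ℂ) := by
  rw [← Finset.add_sum_erase _ _ (Finset.mem_univ (1 : (P : Subgroup G))),
    Finset.sum_congr rfl (g := fun _ => (1 : ℂ)) fun y hy => h.psi_P hB hψ y.2 fun e =>
      (Finset.mem_erase.mp hy).1 (Subtype.ext e),
    Finset.sum_const, Finset.card_erase_of_mem (Finset.mem_univ _), Finset.card_univ,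
    ← Nat.card_eq_fintype_card, h.cardP, OneMemClass.coe_one, (Blocks.irr_degree_eq ψ).1,
    hF.deg ψ hψ, nsmul_eq_mul, mul_one, Nat.cast_sub (Fact.out : p.Prime).one_le]
  push_cast; ring

/-- Values of the family on the cosets of `P` in its normalizer. -/
theorem Setting.sum_psi_coset (h : Setting P E) (hF : Fam P E St Ψ) (hB : Blk P E D St Ψ)
    {ψ : IrrCharacter G} (hψ : ψ ∈ Ψ) {x : G} (hx : x ∈ E) (hx1 : x ≠ 1) :
    ∑ y : (P : Subgroup G), (ψ : G → ℂ) (y * x) = (p : ℂ) * (ψ : G → ℂ) x := by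
  rw [Finset.sum_congr rfl (g := fun _ => (ψ : G → ℂ) x) fun y _ => by
    obtain ⟨w, hw⟩ := h.isConj_coset hx hx1 y.2
    rw [← hw]; exact Blocks.irr_classFunction ψ x w,
    Finset.sum_const, Finset.card_univ, ← Nat.card_eq_fintype_card, h.cardP, nsmul_eq_mul]

/-- The sums of the family over cosets of `P` are divisible by `p`. -/
theorem Setting.integral (h : Setting P E) (he : Odd (Nat.card E)) (hF : Fam P E St Ψ)
    (hB : Blk P E D St Ψ) (V : ValuationSubring ℂ) [CharP (IsLocalRing.ResidueField V) p]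
    {ψ : IrrCharacter G} (hψ : ψ ∈ Ψ) (g : G) :
    ∃ b : V, ∑ y : (P : Subgroup G), (ψ : G → ℂ) (y * g) = (p : ℂ) * (b : ℂ) := by
  have hp : p.Prime := Fact.out
  obtain ⟨he3, he2⟩ := h.e_three he
  obtain ⟨v, hvo, hvz⟩ := h.exists_gen
  haveI := h.cyc
  obtain ⟨⟨x, hxE⟩, hx⟩ := IsCyclic.exists_generator (α := E)
  have hxz : Subgroup.zpowers x = E := by
    refine le_antisymm (Subgroup.zpowers_le.mpr hxE) fun y hy => ?_
    obtain ⟨i, hi⟩ := Subgroup.mem_zpowers_iff.mp (hx ⟨y, hy⟩)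
    exact ⟨i, by simpa using congrArg Subtype.val hi⟩
  have hxo : orderOf x = Nat.card E := by rw [← Nat.card_zpowers, hxz]
  obtain ⟨ι, _, _, R, hcard, htr, -⟩ := exists_model V ψ
  have hvp : v ^ p = 1 := by rw [← hvo, pow_orderOf_eq_one]
  have hN : Lattice.nrm p R v = ∑ y : (P : Subgroup G), R y :=
    sum_range_eq_sum_zpowers hvz hvo (fun y => R y)
  set N := Lattice.nrm p R v with hNdef
  have hT : ∀ a : G, (((N * R a).trace : V) : ℂ) = ∑ y : (P : Subgroup G), (ψ : G → ℂ) (y * a) := by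
    intro a
    rw [hN, Finset.sum_mul, Matrix.trace_sum]
    push_cast
    exact Finset.sum_congr rfl fun y _ => by rw [← map_mul, htr]
  have hconjP : ∀ c : G, c ∈ E → ∑ y : (P : Subgroup G), R ((c * y * c⁻¹ : G)) = N := by
    intro c hc
    rw [hN]
    let σ : ↥(P : Subgroup G) ≃ ↥(P : Subgroup G) :=
      { toFun := fun y => ⟨c * y * c⁻¹, h.conj_P hc y.2⟩
        invFun := fun y => ⟨c⁻¹ * y * c, by simpa using h.conj_P (E.inv_mem hc) y.2⟩
        left_inv := fun y => Subtype.ext (by simp [mul_assoc])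
        right_inv := fun y => Subtype.ext (by simp [mul_assoc]) }
    exact Fintype.sum_equiv σ _ _ fun y => rfl
  have hcomm : ∀ c : G, c ∈ E → R c * N = N * R c := fun c hc => by
    conv_rhs => rw [← hconjP c hc]
    rw [hN, Finset.mul_sum, Finset.sum_mul]
    exact Finset.sum_congr rfl fun y _ => by rw [← map_mul, ← map_mul, inv_mul_cancel_right]
  have hS : ∑ k ∈ Finset.range (Nat.card E), R (x ^ k) = ∑ c : E, R c := by
    convert sum_range_eq_sum_zpowers hxz hxo (fun y => R y)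
  -- no fixed points on the fixed space
  have hfix : N * ∑ k ∈ Finset.range (Nat.card E), R (x ^ k) = 0 := by
    rw [hS]
    set S := ∑ c : E, R c with hSdef
    have hNN : N * N = (p : V) • N := by
      have h1 : ∀ y : (P : Subgroup G), R y * N = N := fun y => by
        rw [hN, Finset.mul_sum]
        exact Fintype.sum_equiv (Equiv.mulLeft y) _ _ fun z => by simp [map_mul]
      conv_lhs => arg 1; rw [hN]
      rw [Finset.sum_mul, Finset.sum_congr rfl fun y _ => h1 y, Finset.sum_const, Finset.card_univ,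
        ← Nat.card_eq_fintype_card, h.cardP, Nat.cast_smul_eq_nsmul]
    have hSS : S * S = (Nat.card E : V) • S := by
      have h1 : ∀ c : E, R c * S = S := fun c => by
        rw [hSdef, Finset.mul_sum]
        exact Fintype.sum_equiv (Equiv.mulLeft c) _ _ fun z => by simp [map_mul]
      conv_lhs => arg 1; rw [hSdef]
      rw [Finset.sum_mul, Finset.sum_congr rfl fun c _ => h1 c, Finset.sum_const, Finset.card_univ,
        ← Nat.card_eq_fintype_card, Nat.cast_smul_eq_nsmul]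
    have hNS : S * N = N * S := by
      rw [hSdef, Finset.sum_mul, Finset.mul_sum]
      exact Finset.sum_congr rfl fun c _ => hcomm c c.2
    set M := (N * S).map (algebraMap V ℂ) with hM
    have hMM : M * M = ((p : ℂ) * Nat.card E) • M := by
      rw [hM, ← Matrix.map_mul, show N * S * (N * S) = N * (S * N) * S by simp only [mul_assoc], hNS,
        show N * (N * S) * S = N * N * (S * S) by simp only [mul_assoc], hNN, hSS,
        Matrix.smul_mul, Matrix.mul_smul, smul_smul]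
      rw [Matrix.map_smul' _ _ _ (map_mul _), map_mul, map_natCast, map_natCast]
    have hMtr : M.trace = 0 := by
      rw [hM, Lattice.trace_map, Finset.mul_sum, Matrix.trace_sum, map_sum,
        Finset.sum_congr (s₁ := Finset.univ) rfl fun (c : E) _ =>
          (show algebraMap V ℂ (N * R (c : G)).trace = _ from hT c)]
      rw [← Finset.add_sum_erase _ _ (Finset.mem_univ (1 : E)), OneMemClass.coe_one]
      simp only [mul_one]
      rw [h.sum_psi_P hF hB hψ, Finset.sum_congr rfl fun c hc => h.sum_psi_coset hF hB hψ c.2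
        (fun e => (Finset.mem_erase.mp hc).1 (Subtype.ext e)), ← Finset.mul_sum]
      have h1 := hF.sumE ψ hψ
      rw [← Finset.add_sum_erase _ _ (Finset.mem_univ (1 : E)), OneMemClass.coe_one,
        (Blocks.irr_degree_eq ψ).1, hF.deg ψ hψ] at h1
      push_cast at h1
      linear_combination (p : ℂ) * h1
    have hpe : ((p : ℂ) * Nat.card E) ≠ 0 :=
      mul_ne_zero (Nat.cast_ne_zero.mpr hp.ne_zero) (Nat.cast_ne_zero.mpr Nat.card_pos.ne')
    set f := Matrix.toLin' (((p : ℂ) * Nat.card E)⁻¹ • M) with hf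
    have hidem : IsIdempotentElem f := by
      show f * f = f
      rw [hf, Module.End.mul_eq_comp, ← Matrix.toLin'_mul, smul_mul_smul_comm, hMM, smul_smul,
        mul_assoc, inv_mul_cancel₀ hpe, mul_one]
    have htr' := LinearMap.IsProj.trace (LinearMap.IsIdempotentElem.isProj_range f hidem)
    rw [hf, Matrix.trace_toLin'_eq, Matrix.trace_smul, hMtr, smul_zero, ← hf] at htr'
    have hf0 : f = 0 := LinearMap.range_eq_bot.mp (Submodule.finrank_eq_zero.mp
      (by exact_mod_cast htr'.symm))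
    have hM0 : M = 0 := by
      have := Matrix.toLin'.injective (hf0.trans (map_zero _).symm)
      exact (smul_eq_zero.mp this).resolve_left (inv_ne_zero hpe)
    ext i j
    have := congrFun (congrFun hM0 i) j
    rw [hM, Matrix.map_apply, Matrix.zero_apply] at this
    rw [Matrix.zero_apply]
    simpa using this
  have hunit : (Nat.card E : IsLocalRing.ResidueField V) ≠ 0 := fun e => by
    rw [CharP.cast_eq_zero_iff _ p] at e
    have := Nat.le_of_dvd Nat.card_pos e
    omega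
  have hsym : ∀ a : G, (N * R a).trace = (N * R a⁻¹).trace := fun a => Subtype.ext (by
    rw [hT, hT]
    refine Fintype.sum_equiv (Equiv.inv (P : Subgroup G)) _ _ fun y => ?_
    show (ψ : G → ℂ) (y * a) = (ψ : G → ℂ) ((y⁻¹ : (P : Subgroup G)) * a⁻¹)
    rw [← hF.real ψ hψ ((y : G) * a), InvMemClass.coe_inv,
      ← Blocks.irr_classFunction ψ ((y : G) * a)⁻¹ a, show a * ((y : G) * a)⁻¹ * a⁻¹ = (y : G)⁻¹ * a⁻¹ * 1 by
        group, mul_one])
  have h0 := Lattice.trace_nrm_mul_eq_zero R hvp (by rw [hcard, hF.deg ψ hψ]; omega) he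
    (show x ^ Nat.card E = 1 by rw [← hxo, pow_orderOf_eq_one]) hunit (hcomm x hxE) hfix hsym g
  -- unramified
  set n := Nat.card G / p with hn
  have hnG : p * n = Nat.card G := Nat.mul_div_cancel' h.p_dvd
  have hn' : ¬ p ∣ n := fun hd => h.nsq (by
    rw [← hnG, pow_two]; exact Nat.mul_dvd_mul_left p hd)
  have hmem : ∀ z : G, ∃ a ∈ Subring.closure {w : V | w ^ n = 1}, (a : ℂ) = (ψ : G → ℂ) z := by
    intro z
    by_cases hz : p ∣ orderOf z
    · exact ⟨1, one_mem _, by rw [h.psi_singular hB hψ hz]; rfl⟩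
    · obtain ⟨m, ρ, -, hρ⟩ := ψ.2
      rw [← hρ]
      refine Lattice.value_mem ρ (fun e => hn' (by rw [e]; exact dvd_zero p)) ?_
      refine (Nat.Coprime.dvd_of_dvd_mul_left ((hp.coprime_iff_not_dvd.mpr hz).symm) ?_)
      rw [hnG]; exact orderOf_dvd_natCard z
  choose a ha hav using fun y : (P : Subgroup G) => hmem ((y : G) * g)
  have hsum : (N * R g).trace = ∑ y : (P : Subgroup G), a y := Subtype.ext (by
    rw [hT]; push_cast; exact Finset.sum_congr rfl fun y _ => (hav y).symm)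
  obtain ⟨b, hb⟩ := Lattice.exists_div (p := p) (CharP.cast_eq_zero _ p) hn'
    (show (N * R g).trace ∈ Subring.closure {w : V | w ^ n = 1} by
      rw [hsum]; exact sum_mem fun y _ => ha y) h0
  exact ⟨b, by rw [← hT, hb]; push_cast; rfl⟩

/-- The mean of a character on `P` is bounded by its degree divided by `p`. -/
theorem Setting.degree_bound (h : Setting P E) (he : Odd (Nat.card E)) (hF : Fam P E St Ψ)
    (hB : Blk P E D St Ψ) (χ : IrrCharacter G) (h1 : χ ≠ Blocks.trivIrr G) (h2 : χ ∉ Ψ) :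
    ∃ m : ℕ, p * m ≤ charDegree (χ : G → ℂ) ∧
      (p : ℂ) * m = ∑ y : (P : Subgroup G), (χ : G → ℂ) y := by
  have hp : p.Prime := Fact.out
  obtain ⟨V, hV⟩ := exists_residue_char hp
  obtain ⟨v, hvo, hvz⟩ := h.exists_gen
  have hvp : v ^ p = 1 := by rw [← hvo, pow_orderOf_eq_one]
  obtain ⟨ι, _, _, R, hcard, htr, hann⟩ := exists_model V χ
  choose b hb using fun (ψ : Ψ) (g : G) => h.integral he hF hB V ψ.2 g
  set H : G → V := fun g => 1 + ∑ ψ : Ψ, b ψ g with hH
  have hp0 : (p : ℂ) ≠ 0 := Nat.cast_ne_zero.mpr hp.ne_zero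
  have hHC : ∀ g, (p : ℂ) * (H g : ℂ) =
      p + ∑ ψ ∈ Ψ, ∑ y : (P : Subgroup G), (ψ : G → ℂ) (y * g) := fun g => by
    rw [hH]
    push_cast
    rw [mul_add, mul_one, Finset.mul_sum, ← Finset.sum_coe_sort Ψ]
    congr 1
    exact Finset.sum_congr rfl fun ψ _ => (hb ψ g).symm
  have hleft : ∀ q ∈ (P : Subgroup G), ∀ g, H (q * g) = H g := fun q hq g => Subtype.ext
    (mul_left_cancel₀ hp0 (by
      rw [hHC, hHC]
      congr 1
      refine Finset.sum_congr rfl fun ψ _ => ?_
      exact Fintype.sum_equiv (Equiv.mulRight ⟨q, hq⟩) _ _ fun y => by simp [mul_assoc]))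
  have hright : ∀ q ∈ (P : Subgroup G), ∀ g, H (g * q) = H g := fun q hq g => Subtype.ext
    (mul_left_cancel₀ hp0 (by
      rw [hHC, hHC]
      congr 1
      refine Finset.sum_congr rfl fun ψ _ => ?_
      refine Fintype.sum_equiv (Equiv.mulLeft ⟨q, hq⟩) _ _ fun y => ?_
      show (ψ : G → ℂ) (y * (g * q)) = (ψ : G → ℂ) (q * y * g)
      rw [← Blocks.irr_classFunction ψ ((y : G) * (g * q)) q]
      congr 1; group))
  have hPval : ∀ y ∈ (P : Subgroup G), H y = (Nat.card E : V) := fun y hy => by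
    rw [← mul_one y, hleft y hy]
    refine Subtype.ext (mul_left_cancel₀ hp0 ?_)
    rw [hHC]
    simp only [mul_one]
    rw [Finset.sum_congr rfl fun ψ hψ => h.sum_psi_P hF hB hψ, Finset.sum_const, nsmul_eq_mul]
    push_cast
    rw [show (Nat.card E : ℂ) = 2 * Ψ.card + 1 by exact_mod_cast hF.card.symm]
    ring
  have hNval : ∀ g ∈ Subgroup.normalizer ((P : Subgroup G) : Set G), g ∉ (P : Subgroup G) →
      H g = 0 := by
    intro g hg hgP
    rw [← h.hNP] at hg
    have hg' : g ∈ (↑((P : Subgroup G) ⊔ E) : Set G) := hg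
    rw [Subgroup.coe_mul_of_right_le_normalizer_left (P : Subgroup G) E (h.hNP ▸ le_sup_right)] at hg'
    obtain ⟨y, hy, x, hx, rfl⟩ := Set.mem_mul.mp hg'
    have hx1 : x ≠ 1 := fun e => hgP (by rw [e, mul_one]; exact hy)
    rw [hleft y hy]
    refine Subtype.ext (mul_left_cancel₀ hp0 ?_)
    rw [hHC, Finset.sum_congr rfl fun ψ hψ => h.sum_psi_coset hF hB hψ hx hx1, ← Finset.mul_sum,
      hF.sumΨ x hx hx1]
    push_cast
    ring
  -- the relation
  have hrel : ∑ g : G, H g⁻¹ • R g = 0 := by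
    have hinj : Function.Injective fun A : Matrix ι ι V => A.map (algebraMap V ℂ) :=
      Matrix.map_injective Subtype.val_injective
    apply hinj
    show ((algebraMap V ℂ).mapMatrix _ : Matrix ι ι ℂ) = _
    rw [map_sum, show (fun A : Matrix ι ι V => A.map (algebraMap V ℂ)) 0 =
      (0 : Matrix ι ι ℂ) from Matrix.map_zero _ (map_zero _)]
    refine (smul_eq_zero.mp ?_).resolve_left hp0
    rw [Finset.smul_sum]
    have e : ∀ g : G, (p : ℂ) • (algebraMap V ℂ).mapMatrix (H g⁻¹ • R g) =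
        (p : ℂ) • ((1 : ℂ) • (R g).map (algebraMap V ℂ)) + ∑ ψ ∈ Ψ, ∑ y : (P : Subgroup G),
          (ψ : G → ℂ) (y * g⁻¹) • (R g).map (algebraMap V ℂ) := fun g => by
      rw [RingHom.mapMatrix_apply, Matrix.map_smul' _ _ _ (map_mul _), smul_smul,
        show (p : ℂ) * algebraMap V ℂ (H g⁻¹) = _ from hHC g⁻¹, add_smul, one_smul]
      simp only [Finset.sum_smul]
    rw [Finset.sum_congr rfl fun g _ => e g, Finset.sum_add_distrib, ← Finset.smul_sum,
      show ∑ g : G, (1 : ℂ) • (R g).map (algebraMap V ℂ) = 0 from hann _ (Ne.symm h1), smul_zero,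
      zero_add, Finset.sum_comm]
    refine Finset.sum_eq_zero fun ψ hψ => ?_
    rw [Finset.sum_comm]
    refine Finset.sum_eq_zero fun y _ => ?_
    rw [← Equiv.sum_comp (Equiv.mulRight (y : G))]
    simp only [Equiv.coe_mulRight, mul_inv_rev, mul_inv_cancel_left, map_mul, Matrix.map_mul,
      ← Matrix.smul_mul]
    rw [← Finset.sum_mul, hann ψ (fun e => h2 (e ▸ hψ)), Matrix.zero_mul]
  have hfree : ∀ g ∉ Subgroup.normalizer ((P : Subgroup G) : Set G), ∀ q ∈ (P : Subgroup G),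
      q ≠ 1 → g * q * g⁻¹ ∉ (P : Subgroup G) := by
    intro g hg q hq hq1 hgq
    refine hg (Subgroup.mem_normalizer_fintype fun w hw => ?_)
    have hz : Subgroup.zpowers q = (P : Subgroup G) :=
      Subgroup.eq_of_le_of_card_ge (Subgroup.zpowers_le.mpr hq) (by
        rw [h.cardP, Nat.card_zpowers]
        have h3 := Subgroup.orderOf_dvd_natCard (P : Subgroup G) hq
        rw [h.cardP] at h3
        rcases (Nat.dvd_prime hp).mp h3 with e | e
        · exact absurd (orderOf_eq_one_iff.mp e) hq1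
        · rw [e])
    change w ∈ (P : Subgroup G) at hw
    show g * w * g⁻¹ ∈ (P : Subgroup G)
    rw [← hz] at hw
    obtain ⟨i, rfl⟩ := Subgroup.mem_zpowers_iff.mp hw
    rw [← conj_zpow]
    exact zpow_mem hgq i
  have hN : Lattice.nrm p R v = ∑ y : (P : Subgroup G), R y :=
    sum_range_eq_sum_zpowers hvz hvo (fun y => R y)
  obtain ⟨Y, hY⟩ := exists_sum_off (P : Subgroup G) R (fun g => H g⁻¹)
    (fun q hq g => by show H (q * g)⁻¹ = _; rw [mul_inv_rev, hright _ (inv_mem hq)])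
    (fun q hq g => by show H (g * q)⁻¹ = _; rw [mul_inv_rev, hleft _ (inv_mem hq)]) hfree
  have hsplit : (Nat.card E : V) • Lattice.nrm p R v +
      Lattice.nrm p R v * Y * Lattice.nrm p R v = 0 := by
    rw [← hrel, ← Finset.sum_filter_add_sum_filter_not Finset.univ
      (fun g => g ∉ Subgroup.normalizer ((P : Subgroup G) : Set G)) fun g => H g⁻¹ • R g, hY, ← hN,
      add_comm]
    congr 1
    rw [← Finset.sum_filter_add_sum_filter_not (Finset.univ.filter fun g =>
      ¬ g ∉ Subgroup.normalizer ((P : Subgroup G) : Set G)) (fun g => g ∈ (P : Subgroup G))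
      fun g => H g⁻¹ • R g]
    rw [Finset.sum_eq_zero (s := Finset.filter (fun g => ¬ g ∈ (P : Subgroup G)) _) fun g hg => by
      simp only [Finset.mem_filter, Finset.mem_univ, true_and, not_not] at hg
      rw [hNval _ (inv_mem hg.1) (fun hm => hg.2 (by simpa using inv_mem hm)), zero_smul], add_zero,
      hN, Finset.smul_sum]
    refine Finset.sum_bij (fun y _ => (y : G)) (fun y _ => ?_) (fun a _ b _ e => Subtype.ext e)
      (fun g hg => ?_) (fun y _ => ?_)
    · simp only [Finset.mem_filter, Finset.mem_univ, true_and, not_not]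
      exact ⟨Subgroup.le_normalizer y.2, y.2⟩
    · exact ⟨⟨g, (Finset.mem_filter.mp hg).2⟩, Finset.mem_univ _, rfl⟩
    · rw [hPval _ (inv_mem y.2)]
  have hunit : IsUnit (Nat.card E : V) := by
    by_contra hnu
    have h3 := (IsLocalRing.residue_eq_zero_iff _).mpr hnu
    rw [map_natCast, CharP.cast_eq_zero_iff _ p] at h3
    have h4 := Nat.le_of_dvd Nat.card_pos h3
    have := h.e_lt
    omega
  refine ⟨_, hcard ▸ Lattice.bound R hvp hunit hsplit, ?_⟩
  rw [Lattice.rank_nrm_complex R hvp]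
  simp only [htr]
  convert sum_range_eq_sum_zpowers hvz hvo (fun y => (χ : G → ℂ) y)

/-- A complement of odd order. -/
theorem Setting.odd_case (h : Setting P E) (he : Odd (Nat.card E)) :
    (p = 5 ∨ p = 7 ∨ p = 11) ∧ ∃ (F : Type) (_ : Field F) (_ : Fintype F),
      Fintype.card F = p ∧ Nonempty (G ≃* Matrix.ProjectiveSpecialLinearGroup (Fin 2) F) := by
  haveI := h.simple
  have hp : p.Prime := Fact.out
  obtain ⟨St, Ψ, hF⟩ := h.exists_fam he
  obtain ⟨D, hB⟩ := h.exists_blk he hF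
  obtain ⟨he3, he2⟩ := h.e_three he
  set T := Blocks.trivIrr G with hT
  set d : IrrCharacter G → ℤ := fun χ => (charDegree (χ : G → ℂ) : ℤ) with hd
  have hp2 : 2 ≤ p := hp.two_le
  have hTΨ : T ∉ Ψ := fun hm => by
    have h1 := hF.deg T hm
    have h2 : (charDegree (T : G → ℂ) : ℂ) = 1 := by rw [← (Blocks.irr_degree_eq T).1]; rfl
    rw [h1] at h2
    have h3 : p + 1 = 1 := by exact_mod_cast h2
    omega
  have hdvdE : ∀ χ : IrrCharacter G, χ ≠ T → χ ∉ Ψ → (χ ∈ D.X ∨ χ ∈ D.Y) →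
      (Nat.card E : ℤ) ∣ d χ := fun χ h1 h2 hm => by
    refine Int.natCast_dvd_natCast.mpr (hF.others χ h1 ?_ h2)
    rintro rfl
    exact hm.elim hB.St_out.1 hB.St_out.2
  have hsumP : ∀ χ : IrrCharacter G, ∑ y : (P : Subgroup G), (χ : G → ℂ) y =
      (charDegree (χ : G → ℂ) : ℂ) +
        ∑ y ∈ Finset.univ.erase (1 : (P : Subgroup G)), (χ : G → ℂ) y := fun χ => by
    rw [← Finset.add_sum_erase _ _ (Finset.mem_univ (1 : (P : Subgroup G))), OneMemClass.coe_one,
      (Blocks.irr_degree_eq χ).1]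
  have hne1 : ∀ y ∈ Finset.univ.erase (1 : (P : Subgroup G)), (y : G) ≠ 1 :=
    fun y hy e => (Finset.mem_erase.mp hy).1 (Subtype.ext e)
  have hc1 : ((Finset.univ.erase (1 : (P : Subgroup G))).card : ℂ) = (p : ℂ) - 1 := by
    rw [Finset.card_erase_of_mem (Finset.mem_univ _), Finset.card_univ, ← Nat.card_eq_fintype_card,
      h.cardP, Nat.cast_sub hp.one_le, Nat.cast_one]
  -- the other characters of `X`
  set X' := D.X.filter fun χ => χ ≠ T ∧ χ ∉ Ψ with hX'
  have hmem : ∀ χ ∈ X', χ ∈ D.X ∧ χ ≠ T ∧ χ ∉ Ψ := fun χ hχ => Finset.mem_filter.mp hχ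
  have hX'δ : ∀ χ ∈ X', D.δ χ = -1 ∧ (p : ℤ) - 1 ≤ d χ := by
    intro χ hχ
    obtain ⟨hX, h1, h2⟩ := hmem χ hχ
    obtain ⟨m, hm, hmsum⟩ := h.degree_bound he hF hB χ h1 h2
    rw [hsumP, Finset.sum_congr rfl (g := fun _ => (D.δ χ : ℂ)) (fun y hy => by
      have := D.valX χ hX y y.2 (hne1 y hy) 1 (one_mem _)
        (by rw [orderOf_one]; exact hp.not_dvd_one)
      rwa [mul_one] at this), Finset.sum_const, nsmul_eq_mul, hc1] at hmsum
    have hmsum' : (p : ℤ) * m = d χ + ((p : ℤ) - 1) * D.δ χ := by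
      rw [hd]
      apply Int.cast_injective (α := ℂ)
      push_cast
      exact hmsum
    have hm' : (p : ℤ) * m ≤ d χ := by
      show (p : ℤ) * m ≤ (charDegree (χ : G → ℂ) : ℤ)
      exact_mod_cast hm
    rcases D.hδ χ hX with e | e <;> rw [e] at hmsum'
    · omega
    · refine ⟨e, ?_⟩
      have : 0 ≤ (p : ℤ) * m := by positivity
      omega
  have hXeq : D.X = insert T (Ψ ∪ X') := by
    ext χ
    simp only [Finset.mem_insert, Finset.mem_union, hX', Finset.mem_filter]
    refine ⟨fun hχ => ?_, ?_⟩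
    · by_cases h1 : χ = T
      · exact Or.inl h1
      by_cases h2 : χ ∈ Ψ
      · exact Or.inr (Or.inl h2)
      exact Or.inr (Or.inr ⟨hχ, h1, h2⟩)
    · rintro (rfl | h2 | h3)
      exacts [hB.trivX, (hB.ΨX χ h2).1, h3.1]
  have hdisj : Disjoint Ψ X' := Finset.disjoint_left.mpr fun χ h1 h2 => (hmem χ h2).2.2 h1
  have hTn : T ∉ Ψ ∪ X' := by
    rw [Finset.mem_union, not_or]; exact ⟨hTΨ, fun hm => (hmem T hm).2.1 rfl⟩
  have hcardX' : X'.card = Ψ.card := by
    have h1 := D.card_X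
    rw [hXeq, Finset.card_insert_of_notMem hTn, Finset.card_union_of_disjoint hdisj, hB.e_eq,
      ← hF.card] at h1
    omega
  -- the exceptional characters
  obtain ⟨χ₀, hχ₀⟩ : D.Y.Nonempty := Finset.card_pos.mp (by rw [D.card_Y]; exact D.one_le_t)
  have hYne : ∀ χ ∈ D.Y, χ ≠ T ∧ χ ∉ Ψ := fun χ hχ =>
    ⟨fun e => hB.TY (show T ∈ D.Y from e ▸ hχ), fun hm => hB.ΨY χ hm hχ⟩
  set f := charDegree (χ₀ : G → ℂ) with hfdef
  have hf : ∀ χ ∈ D.Y, charDegree (χ : G → ℂ) = f := fun χ hχ => D.degY_eq χ hχ χ₀ hχ₀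
  have hε : D.ε = 1 := by
    refine D.hε.resolve_right fun e => ?_
    choose! m hm hmsum using fun χ (hχ : χ ∈ D.Y) =>
      h.degree_bound he hF hB χ (hYne χ hχ).1 (hYne χ hχ).2
    have hS : (p : ℂ) * ((∑ χ ∈ D.Y, m χ : ℕ) : ℂ) = (D.t : ℂ) * f + ((p : ℂ) - 1) := by
      push_cast
      rw [Finset.mul_sum, Finset.sum_congr rfl fun χ hχ => (hmsum χ hχ).trans (hsumP χ),
        Finset.sum_add_distrib, Finset.sum_congr (s₁ := D.Y) rfl (g := fun _ => (f : ℂ))
          (fun χ hχ => by rw [hf χ hχ]), Finset.sum_const, D.card_Y, nsmul_eq_mul, Finset.sum_comm,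
        Finset.sum_congr rfl (g := fun _ => (1 : ℂ)) (fun y hy => by
          rw [D.sumY y y.2 (hne1 y hy), e]; norm_num), Finset.sum_const, nsmul_eq_mul, mul_one, hc1]
    have hS' : (p : ℤ) * ((∑ χ ∈ D.Y, m χ : ℕ) : ℤ) = (D.t : ℤ) * f + ((p : ℤ) - 1) := by
      exact_mod_cast hS
    have hle : p * (∑ χ ∈ D.Y, m χ) ≤ D.t * f := by
      rw [Finset.mul_sum]
      calc ∑ χ ∈ D.Y, p * m χ ≤ ∑ χ ∈ D.Y, f :=
            Finset.sum_le_sum fun χ hχ => (hf χ hχ) ▸ hm χ hχ
        _ = D.t * f := by rw [Finset.sum_const, D.card_Y, smul_eq_mul]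
    have hle' : (p : ℤ) * ((∑ χ ∈ D.Y, m χ : ℕ) : ℤ) ≤ (D.t : ℤ) * f := by exact_mod_cast hle
    omega
  have hrel : (f : ℤ) = 1 + Ψ.card * ((p : ℤ) + 1) - ∑ χ ∈ X', d χ := by
    have h1 := D.rel χ₀ hχ₀ 1 (by rw [orderOf_one]; exact hp.not_dvd_one)
    rw [hε, Int.cast_one, one_mul, hXeq, Finset.sum_insert hTn, Finset.sum_union hdisj,
      hB.trivδ, Finset.sum_congr (s₁ := Ψ) rfl (g := fun _ => ((p : ℂ) + 1)) (fun ψ hψ => by
        rw [(hB.ΨX ψ hψ).2, (Blocks.irr_degree_eq ψ).1, hF.deg ψ hψ]; push_cast; ring),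
      Finset.sum_congr (s₁ := X') rfl (g := fun χ => -((d χ : ℤ) : ℂ)) (fun χ hχ => by
        rw [(hX'δ χ hχ).1, (Blocks.irr_degree_eq χ).1]; simp [hd]),
      Finset.sum_const, nsmul_eq_mul, Finset.sum_neg_distrib, (Blocks.irr_degree_eq χ₀).1,
      show (T : G → ℂ) 1 = 1 from rfl, Int.cast_one, one_mul] at h1
    apply Int.cast_injective (α := ℂ)
    push_cast
    linear_combination h1
  have hfle : (f : ℤ) ≤ Nat.card E := by
    have h1 : (X'.card : ℤ) * ((p : ℤ) - 1) ≤ ∑ χ ∈ X', d χ := by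
      rw [← nsmul_eq_mul]
      exact Finset.card_nsmul_le_sum X' _ _ fun χ hχ => (hX'δ χ hχ).2
    rw [hcardX'] at h1
    have h2 : (Nat.card E : ℤ) = 2 * Ψ.card + 1 := by exact_mod_cast hF.card.symm
    have h3 : (Ψ.card : ℤ) * ((p : ℤ) + 1) = Ψ.card * ((p : ℤ) - 1) + 2 * Ψ.card := by ring
    omega
  have hfe : f = Nat.card E := by
    have h1 := hdvdE χ₀ (hYne χ₀ hχ₀).1 (hYne χ₀ hχ₀).2 (Or.inr hχ₀)
    have h1' : (Nat.card E : ℤ) ∣ ((f : ℕ) : ℤ) := h1
    have h2 : Nat.card E ∣ f := Int.natCast_dvd_natCast.mp h1'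
    have h3 : 0 < f := by
      rw [hfdef]
      refine Nat.pos_of_ne_zero fun e => Char.irr_degree_ne_zero χ₀.2 ?_
      rw [(Blocks.irr_degree_eq χ₀).1, e, Nat.cast_zero]
    have := Nat.le_of_dvd h3 h2
    omega
  -- the small faithful character
  have hfaith : ∀ g : G, (χ₀ : G → ℂ) g = (χ₀ : G → ℂ) 1 → g = 1 := by
    intro g hg
    obtain ⟨K, hK, hKmem, -⟩ := Char.exists_kernel (Char.isCharacter_of_isIrr χ₀.2)
    rcases hK.eq_bot_or_eq_top with e | e
    · have hm := (hKmem g).mpr hg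
      rw [e] at hm
      exact Subgroup.mem_bot.mp hm
    · exfalso
      have hconst : ∀ a : G, (χ₀ : G → ℂ) a = (f : ℂ) := fun a => by
        rw [hfdef, ← (Blocks.irr_degree_eq χ₀).1]
        exact (hKmem a).mp (e ▸ Subgroup.mem_top a)
      have h1 := Char.classInner_irr_ne χ₀.2 T.2
        (fun e' => (hYne χ₀ hχ₀).1 (Subtype.ext e'))
      rw [classInner, mul_eq_zero] at h1
      have h2 := h1.resolve_left (inv_ne_zero (Nat.cast_ne_zero.mpr Nat.card_pos.ne'))
      simp only [hconst, show ∀ a : G, (T : G → ℂ) a = 1 from fun a => rfl, map_one, mul_one,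
        Finset.sum_const, Finset.card_univ, nsmul_eq_mul] at h2
      rcases mul_eq_zero.mp h2 with h3 | h3
      · exact Fintype.card_ne_zero (by exact_mod_cast h3)
      · have : f = 0 := by exact_mod_cast h3
        omega
  have hnn : ∀ K : Subgroup G, K.Normal → Nat.card K ≠ p := fun K hK hc => by
    rcases hK.eq_bot_or_eq_top with e | e <;> rw [e] at hc
    · rw [Subgroup.card_bot] at hc; omega
    · rw [Subgroup.card_top] at hc
      exact h.ncyc (isCyclic_of_prime_card hc)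
  have hlow := Cfsg.Agent.S4503.result p hp h.p_dvd h.nsq hnn (χ₀ : G → ℂ)
    (Char.isCharacter_of_isIrr χ₀.2) hfaith
  obtain ⟨iso⟩ := Cfsg.Agent.S4504.result p hp h.p_dvd h.nsq hnn (χ₀ : G → ℂ)
    (Char.isCharacter_of_isIrr χ₀.2) hfaith (by omega)
  have hZ : Subgroup.center G = ⊥ := by
    refine (inferInstance : (Subgroup.center G).Normal).eq_bot_or_eq_top.resolve_right fun e => ?_
    have h1 : commutator G = ⊥ := by
      rw [commutator_def, Subgroup.commutator_eq_bot_iff_le_centralizer]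
      exact fun a _ => Subgroup.mem_centralizer_iff.mpr fun b _ =>
        Subgroup.mem_center_iff.mp (e ▸ Subgroup.mem_top a) b
    exact top_ne_bot (h.perfect.symm.trans h1)
  let iso' : G ≃* Matrix.ProjectiveSpecialLinearGroup (Fin 2) (ZMod p) :=
    QuotientGroup.quotientBot.symm.trans ((QuotientGroup.quotientMulEquivOfEq hZ.symm).trans iso)
  obtain ⟨h1, h2⟩ := h.conclude iso' (by
    rw [ZMod.card]; exact hp.odd_of_ne_two (by have := h.hp5; omega))
  exact ⟨h1, ZMod p, inferInstance, inferInstance, h2, ⟨iso'⟩⟩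

end CfsgLib.PrimeDegTI
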