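import Cfsg.Agent.Lib.Perm.PrimeDihedral
import Cfsg.Agent.Lib.BrauerReynolds.Perfect
import Cfsg.Agent.Lib.Char.Clifford
import Cfsg.Agent.Lib.Char.Table
import Cfsg.Agent.Lib.BSW.Setup

/-!
# A transitive group of prime degree with a TI complement in the Sylow normalizer
-/

set_option autoImplicit false
set_option linter.unusedSectionVars false
set_option linter.style.haveILetI false

open scoped Classical

namespace CfsgLib.PrimeDegTI

open Cfsg CfsgLib
open scoped CfsgLib.Char ComplexConjugate

universe u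

variable {G : Type u} [Group G] [Finite G] {p : ℕ} [Fact p.Prime]

/-- The abstract situation. -/
structure Setting (P : Sylow p G) (E : Subgroup G) : Prop where
  hp5 : 5 ≤ p
  simple : IsSimpleGroup G
  ncyc : ¬ IsCyclic G
  cardP : Nat.card (P : Subgroup G) = p
  cP : Subgroup.centralizer ((P : Subgroup G) : Set G) = (P : Subgroup G)
  cyc : IsCyclic E
  two_le : 2 ≤ Nat.card E
  dvd : Nat.card E ∣ p - 1
  hNP : (P : Subgroup G) ⊔ E = Subgroup.normalizer ((P : Subgroup G) : Set G)
  hPE : (P : Subgroup G) ⊓ E = ⊥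
  hNE : Nat.card (Subgroup.normalizer (E : Set G)) = 2 * Nat.card E
  ti : ∀ g x : G, x ∈ E → x ≠ 1 → g * x * g⁻¹ ∈ E → g ∈ Subgroup.normalizer (E : Set G)
  card_dvd : Nat.card G ∣ Nat.factorial p
  idx : ∃ H : Subgroup G, H.index = p
  uniq : ∃! χ : IrrCharacter G, charDegree (χ : G → ℂ) = p

theorem Setting.p_pos {P : Sylow p G} {E : Subgroup G} (h : Setting P E) : 0 < p := by
  have := h.hp5; omega

theorem Setting.e_lt {P : Sylow p G} {E : Subgroup G} (h : Setting P E) : Nat.card E < p := by
  have h5 := h.hp5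
  have := Nat.le_of_dvd (by omega) h.dvd
  omega

theorem Setting.comm {P : Sylow p G} {E : Subgroup G} (h : Setting P E) {a b : G} (ha : a ∈ E)
    (hb : b ∈ E) : a * b = b * a := by
  haveI := h.cyc
  exact congrArg Subtype.val ((IsCyclic.commGroup (α := E)).mul_comm ⟨a, ha⟩ ⟨b, hb⟩)

theorem Setting.p_dvd {P : Sylow p G} {E : Subgroup G} (h : Setting P E) : p ∣ Nat.card G :=
  h.cardP ▸ Subgroup.card_subgroup_dvd_card _

theorem Setting.nsq {P : Sylow p G} {E : Subgroup G} (h : Setting P E) : ¬ p ^ 2 ∣ Nat.card G := by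
  intro hd
  have hp : p.Prime := Fact.out
  have h2 : 2 ≤ (Nat.card G).factorization p :=
    (hp.pow_dvd_iff_le_factorization Nat.card_pos.ne').mp hd
  have h' := Sylow.card_eq_multiplicity P
  rw [h.cardP] at h'
  have h3 : p ^ 2 ≤ p ^ 1 := by
    rw [pow_one]
    calc p ^ 2 ≤ p ^ (Nat.card G).factorization p := Nat.pow_le_pow_right hp.pos h2
      _ = p := h'.symm
  exact absurd ((Nat.pow_le_pow_iff_right hp.one_lt).mp h3) (by omega)

/-- The normalizer of a self-centralizing subgroup of order `p` as a semidirect product. -/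
theorem card_sup_of_normalizes {A B : Subgroup G} (hB : B ≤ Subgroup.normalizer (A : Set G))
    (hAB : A ⊓ B = ⊥) : Nat.card ↥(A ⊔ B) = Nat.card A * Nat.card B := by
  rw [← Nat.card_prod]
  refine (Nat.card_eq_of_bijective (fun x : A × B => (⟨x.1 * x.2,
    mul_mem (Subgroup.mem_sup_left x.1.2) (Subgroup.mem_sup_right x.2.2)⟩ : ↥(A ⊔ B)))
    ⟨fun a b hab => ?_, fun g => ?_⟩).symm
  · have e := congrArg Subtype.val hab
    dsimp only at e
    have e2 : ((b.1 : G))⁻¹ * a.1 = b.2 * (a.2 : G)⁻¹ := by
      rw [inv_mul_eq_iff_eq_mul, ← mul_assoc, ← e, mul_inv_cancel_right]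
    have hm : ((b.1 : G))⁻¹ * a.1 ∈ A ⊓ B :=
      Subgroup.mem_inf.mpr ⟨A.mul_mem (A.inv_mem b.1.2) a.1.2,
        e2 ▸ B.mul_mem b.2.2 (B.inv_mem a.2.2)⟩
    rw [hAB, Subgroup.mem_bot] at hm
    rw [hm] at e2
    exact Prod.ext (Subtype.ext (inv_mul_eq_one.mp hm).symm)
      (Subtype.ext (mul_inv_eq_one.mp e2.symm).symm)
  · have hg : (g : G) ∈ (↑(A ⊔ B) : Set G) := g.2
    rw [Subgroup.coe_mul_of_right_le_normalizer_left A B hB] at hg
    obtain ⟨a, ha, b, hb, e⟩ := Set.mem_mul.mp hg
    exact ⟨(⟨a, ha⟩, ⟨b, hb⟩), Subtype.ext e⟩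

theorem Setting.card_NP {P : Sylow p G} {E : Subgroup G} (h : Setting P E) :
    Nat.card (Subgroup.normalizer ((P : Subgroup G) : Set G)) = p * Nat.card E := by
  rw [← h.hNP, card_sup_of_normalizes (h.hNP ▸ le_sup_right) h.hPE, h.cardP]

/-- Elements of order divisible by `p` have order `p`. -/
theorem Setting.singular {P : Sylow p G} {E : Subgroup G} (h : Setting P E) {g : G}
    (hg : p ∣ orderOf g) : ∃ c : G, c * g * c⁻¹ ∈ (P : Subgroup G) ∧ g ≠ 1 := by
  have hp : p.Prime := Fact.out
  have hg1 : g ≠ 1 := fun e => hp.not_dvd_one (by rwa [e, orderOf_one] at hg)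
  set v := g ^ (orderOf g / p) with hv
  have hvo : orderOf v = p := orderOf_pow_orderOf_div (orderOf_pos g).ne' hg
  obtain ⟨Q, hQ⟩ := (IsPGroup.of_card (p := p) (n := 1)
    (show Nat.card (Subgroup.zpowers v) = p ^ 1 by rw [Nat.card_zpowers, hvo, pow_one])).exists_le_sylow
  obtain ⟨c, hc⟩ := MulAction.exists_smul_eq G Q P
  refine ⟨c, h.cP.le ?_, hg1⟩
  have hvP : c * v * c⁻¹ ∈ (P : Subgroup G) := by
    rw [← hc, Sylow.coe_subgroup_smul]
    exact Subgroup.smul_mem_pointwise_smul _ _ _ (hQ (Subgroup.mem_zpowers v))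
  have hzp : Subgroup.zpowers (c * v * c⁻¹) = (P : Subgroup G) :=
    Subgroup.eq_of_le_of_card_ge (Subgroup.zpowers_le.mpr hvP) (by
      rw [h.cardP, Nat.card_zpowers, BSW.orderOf_conj, hvo])
  rw [Subgroup.mem_centralizer_iff, ← hzp]
  intro y hy
  obtain ⟨i, rfl⟩ := Subgroup.mem_zpowers_iff.mp hy
  have : Commute (c * g * c⁻¹) (c * v * c⁻¹) := by
    show c * g * c⁻¹ * (c * v * c⁻¹) = c * v * c⁻¹ * (c * g * c⁻¹)
    calc _ = c * (g * v) * c⁻¹ := by group
      _ = c * (v * g) * c⁻¹ := by rw [hv, (Commute.self_pow g _).eq]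
      _ = _ := by group
  exact (this.zpow_right i).eq.symm

/-- `N(E)` consists of two cosets of `E`, so it normalizes each subgroup that one outer element
and `E` normalize. -/
theorem Setting.exists_outer {P : Sylow p G} {E : Subgroup G} (h : Setting P E) :
    ∃ τ ∈ Subgroup.normalizer (E : Set G), τ ∉ E := by
  by_contra hc
  push_neg at hc
  have := Subgroup.card_le_of_le (hc : Subgroup.normalizer (E : Set G) ≤ E)
  rw [h.hNE] at this
  have := h.two_le
  omega

theorem Setting.mul_mem_outer {P : Sylow p G} {E : Subgroup G} (h : Setting P E) {a b : G}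
    (ha : a ∈ Subgroup.normalizer (E : Set G)) (hb : b ∈ Subgroup.normalizer (E : Set G))
    (ha' : a ∉ E) (hb' : b ∉ E) : a * b ∈ E := by
  have hle : E ≤ Subgroup.normalizer (E : Set G) := Subgroup.le_normalizer
  have hidx : (E.subgroupOf (Subgroup.normalizer (E : Set G))).index = 2 := by
    have h' := (E.subgroupOf (Subgroup.normalizer (E : Set G))).card_mul_index
    rw [Nat.card_congr (Subgroup.subgroupOfEquivOfLe hle).toEquiv, h.hNE] at h'
    exact Nat.eq_of_mul_eq_mul_left (Nat.card_pos (α := E)) (h'.trans (mul_comm 2 _))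
  have := (Subgroup.mul_mem_iff_of_index_two hidx (a := ⟨a, ha⟩) (b := ⟨b, hb⟩)).mpr
    (by simp [Subgroup.mem_subgroupOf, ha', hb'])
  simpa [Subgroup.mem_subgroupOf] using this

section Perm

variable {α : Type*} [Fintype α] [DecidableEq α] (hα : Fintype.card α = p)
  (G : Subgroup (Equiv.Perm α)) [MulAction.IsPretransitive G α]

include hα in
theorem normal_transitive (N : Subgroup G) [N.Normal] (hN : N ≠ ⊥) :
    MulAction.IsPretransitive N α := by
  haveI : MulAction.IsPreprimitive G α :=
    MulAction.IsPreprimitive.of_prime_card (by rw [Nat.card_eq_fintype_card, hα]; exact Fact.out)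
  refine MulAction.IsQuasiPreprimitive.isPretransitive_of_normal fun h => hN ?_
  rw [Subgroup.eq_bot_iff_forall]
  intro x hx
  refine Subtype.ext (Equiv.ext fun y => ?_)
  have hy : y ∈ MulAction.fixedPoints N α := h ▸ Set.mem_univ y
  exact hy ⟨x, hx⟩

include hα in
theorem p_dvd_of_transitive (H : Subgroup G) [MulAction.IsPretransitive H α] : p ∣ Nat.card H := by
  obtain ⟨a⟩ : Nonempty α := Fintype.card_pos_iff.mp (by rw [hα]; exact (Fact.out : p.Prime).pos)
  have h := (MulAction.stabilizer H a).index_dvd_card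
  rwa [MulAction.index_stabilizer_of_transitive, Nat.card_eq_fintype_card (α := α), hα] at h

include hα in
/-- The hypotheses of the theorem give the abstract situation. -/
theorem setting_of_perm
    (huniq : ∃! χ : IrrCharacter G, charDegree (χ : G → ℂ) = p) (P : Sylow p G) (E : Subgroup G)
    (hPE : (P : Subgroup G) ⊔ E = Subgroup.normalizer ((P : Subgroup G) : Set G))
    (hPE' : (P : Subgroup G) ⊓ E = ⊥)
    (hNE : Nat.card (Subgroup.normalizer (E : Set G)) = 2 * Nat.card E)
    (hTI : ∀ g : G, g ∉ Subgroup.normalizer (E : Set G) →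
      E ⊓ E.map (MulAut.conj g).toMonoidHom = ⊥) : Setting P E := by
  haveI : Fintype G := Fintype.ofFinite G
  have hp : p.Prime := Fact.out
  obtain ⟨χ₀, hχ₀, huni⟩ := huniq
  have hdvd : Nat.card G ∣ p.factorial := by
    have h := G.card_subgroup_dvd_card
    rwa [Nat.card_eq_fintype_card (α := Equiv.Perm α), Fintype.card_perm, hα] at h
  have hdeg : (χ₀ : G → ℂ) 1 = p := by rw [(Blocks.irr_degree_eq χ₀).1, hχ₀]
  have hcard_gt : p * p < Nat.card G := by
    have h := Char.sum_sq_degree (G := G)
    have hne : χ₀ ≠ Blocks.trivIrr G := fun e => by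
      have : (p : ℂ) = 1 := by rw [← hdeg, e]; rfl
      exact hp.one_lt.ne' (by exact_mod_cast this)
    rw [← Finset.sum_sdiff (Finset.subset_univ ({χ₀, Blocks.trivIrr G} : Finset _)),
      Finset.sum_pair hne, show (Blocks.trivIrr G : G → ℂ) 1 = 1 from rfl, hdeg] at h
    have hr : ∀ χ : IrrCharacter G, (χ : G → ℂ) 1 = (charDegree (χ : G → ℂ) : ℂ) :=
      fun χ => (Blocks.irr_degree_eq χ).1
    simp only [hr] at h
    have h' : (∑ χ ∈ Finset.univ \ {χ₀, Blocks.trivIrr G}, charDegree (χ : G → ℂ) ^ 2) +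
        (p ^ 2 + 1 ^ 2) = Nat.card G := by exact_mod_cast h
    rw [pow_two, pow_two] at h'
    omega
  have hp5 : 5 ≤ p := by
    by_contra hlt
    have h4 : p ≠ 4 := fun e => by rw [e] at hp; norm_num at hp
    have h6 : Nat.card G ≤ p.factorial := Nat.le_of_dvd (Nat.factorial_pos p) hdvd
    have := hp.two_le
    interval_cases p <;> simp only [Nat.factorial, Nat.succ_eq_add_one] at h6 <;> omega
  have hpG : p ∣ Nat.card G := by
    haveI : MulAction.IsPretransitive (⊤ : Subgroup G) α := ⟨fun a b => by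
      obtain ⟨g, hg⟩ := MulAction.exists_smul_eq G a b
      exact ⟨⟨g, trivial⟩, hg⟩⟩
    have := p_dvd_of_transitive hα G ⊤
    rwa [Subgroup.card_top] at this
  have hsq : ¬ p ^ 2 ∣ Nat.card G := fun h => by
    have h2 := h.trans hdvd
    have : p ^ 2 ∣ p * (p - 1).factorial := by rwa [Nat.mul_factorial_pred hp.ne_zero]
    rw [pow_two] at this
    have h3 := Nat.dvd_of_mul_dvd_mul_left hp.pos this
    rw [hp.dvd_factorial] at h3
    omega
  have hP : Nat.card (P : Subgroup G) = p := by
    rw [P.card_eq_multiplicity]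
    have h1 : (Nat.card G).factorization p ≤ 1 := by
      by_contra hh
      exact hsq ((hp.pow_dvd_iff_le_factorization Nat.card_pos.ne').mpr (by omega))
    have h2 : 1 ≤ (Nat.card G).factorization p :=
      (hp.pow_dvd_iff_le_factorization Nat.card_pos.ne').mp (by simpa using hpG)
    rw [le_antisymm h1 h2, pow_one]
  haveI : IsCyclic (P : Subgroup G) := isCyclic_of_prime_card hP
  obtain ⟨z, hz⟩ := exists_prime_orderOf_dvd_card' (G := (P : Subgroup G)) p (dvd_of_eq hP.symm)
  have hCP : Subgroup.centralizer ((P : Subgroup G) : Set G) = (P : Subgroup G) := by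
    refine le_antisymm (fun x hx => ?_) fun x hx => ?_
    · obtain ⟨k, hk⟩ := PrimeDihedral.mem_zpowers_of_commute hα
        (v := (((z : G)) : Equiv.Perm α)) (g := (x : Equiv.Perm α))
        (by rw [Subgroup.orderOf_coe, Subgroup.orderOf_coe, hz])
        (congrArg Subtype.val (Subgroup.mem_centralizer_iff.mp hx (z : G) z.2).symm)
      rw [show x = (z : G) ^ k from Subtype.ext (by rw [Subgroup.coe_zpow]; exact hk.symm)]
      exact Subgroup.zpow_mem _ z.2 k
    · exact Subgroup.mem_centralizer_iff.mpr fun y hy => congrArg Subtype.val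
        ((IsCyclic.commGroup (α := (P : Subgroup G))).mul_comm ⟨y, hy⟩ ⟨x, hx⟩)
  set N := Subgroup.normalizer ((P : Subgroup G) : Set G) with hNdef
  have hEN : E ≤ N := hPE ▸ le_sup_right
  have hNc : Nat.card N = p * Nat.card E := by
    rw [← hPE, card_sup_of_normalizes hEN hPE', hP]
  -- `E` embeds in `Aut P`
  let f : E →* MulAut (P : Subgroup G) :=
    (P : Subgroup G).normalizerMonoidHom.comp (Subgroup.inclusion hEN)
  have hf : Function.Injective f := by
    rw [← MonoidHom.ker_eq_bot_iff, Subgroup.eq_bot_iff_forall]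
    intro x hx
    have h1 : Subgroup.inclusion hEN x ∈ (P : Subgroup G).normalizerMonoidHom.ker := hx
    rw [Subgroup.normalizerMonoidHom_ker, Subgroup.mem_subgroupOf, hCP] at h1
    exact Subtype.ext (Subgroup.mem_bot.mp (hPE' ▸ ⟨h1, x.2⟩))
  haveI : IsCyclic (ZMod (Nat.card (P : Subgroup G)))ˣ := by
    rw [hP]; exact ZMod.isCyclic_units_prime Fact.out
  haveI : IsCyclic (MulAut (P : Subgroup G)) :=
    isCyclic_of_injective (IsCyclic.mulAutMulEquiv (P : Subgroup G)).toMonoidHom
      (IsCyclic.mulAutMulEquiv (P : Subgroup G)).injective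
  have hcyc : IsCyclic E := isCyclic_of_injective f hf
  have hedvd : Nat.card E ∣ p - 1 := by
    have h := Subgroup.card_dvd_of_injective f hf
    rwa [Nat.card_congr (IsCyclic.mulAutMulEquiv (P : Subgroup G)).toEquiv, hP,
      Nat.card_eq_fintype_card (α := (ZMod p)ˣ), ZMod.card_units_eq_totient,
      Nat.totient_prime hp] at h
  have helt : Nat.card E < p := by
    have := Nat.le_of_dvd (by omega) hedvd
    omega
  have htwo : 2 ≤ Nat.card E := by
    by_contra hlt
    have h1 : Nat.card E = 1 := by have := Nat.card_pos (α := E); omega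
    have hb := Subgroup.card_eq_one.mp h1
    rw [hb] at hNE
    rw [Subgroup.normalizer_eq_top_iff.mpr (inferInstance : (⊥ : Subgroup G).Normal),
      Subgroup.card_top, Subgroup.card_bot] at hNE
    have := Nat.mul_le_mul hp5 hp5
    omega
  have hnotN : N ≠ ⊤ := fun e => by
    rw [e, Subgroup.card_top] at hNc
    have := Nat.mul_lt_mul_of_pos_left helt hp.pos
    omega
  have hPle : ∀ K : Subgroup G, K.Normal → K ≠ ⊥ → (P : Subgroup G) ≤ K := by
    intro K hK hne
    haveI := hK
    haveI := normal_transitive hα G K hne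
    obtain ⟨x, hx⟩ := exists_prime_orderOf_dvd_card' p (p_dvd_of_transitive hα G K)
    have hxo : orderOf (x : G) = p := (Subgroup.orderOf_coe x).trans hx
    obtain ⟨Q, hQ⟩ := (IsPGroup.of_card (p := p) (n := 1)
      (show Nat.card (Subgroup.zpowers (x : G)) = p ^ 1 by
        rw [Nat.card_zpowers, hxo, pow_one])).exists_le_sylow
    obtain ⟨c, hc⟩ := MulAction.exists_smul_eq G Q P
    have hQK : (Q : Subgroup G) ≤ K := by
      have : Subgroup.zpowers (x : G) = (Q : Subgroup G) :=
        Subgroup.eq_of_le_of_card_ge hQ (by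
          rw [Nat.card_zpowers, hxo, Sylow.card_eq_multiplicity,
            ← Sylow.card_eq_multiplicity P, hP])
      rw [← this]
      exact Subgroup.zpowers_le.mpr x.2
    rw [← hc, Sylow.coe_subgroup_smul]
    rintro y ⟨q, hq, rfl⟩
    exact hK.conj_mem q (hQK hq) c
  have hperf : commutator G = ⊤ := by
    by_contra hne
    haveI : Nontrivial (Abelianization G) :=
      Finite.one_lt_card_iff_nontrivial.mp (by
        have h1 := Nat.card_pos (α := Abelianization G)
        have h2 : Nat.card (Abelianization G) ≠ 1 := fun e =>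
          hne (Subgroup.index_eq_one.mp (by rw [Subgroup.index_eq_card]; exact e))
        omega)
    obtain ⟨w, hw⟩ := exists_ne (1 : Abelianization G)
    haveI : NeZero (Monoid.exponent (Abelianization G)) := ⟨Monoid.exponent_ne_zero_of_finite⟩
    obtain ⟨φ, hφ⟩ := CommGroup.exists_apply_ne_one_of_hasEnoughRootsOfUnity (Abelianization G) ℂ hw
    set l : G →* ℂˣ := φ.comp Abelianization.of with hl
    set K := l.ker with hKdef
    have hKtop : K ≠ ⊤ := fun e => hφ (by
      obtain ⟨g, rfl⟩ := QuotientGroup.mk_surjective w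
      exact MonoidHom.mem_ker.mp (show g ∈ K from e ▸ Subgroup.mem_top g))
    have hKbot : K ≠ ⊥ := fun e => by
      have hinj : Function.Injective l := (MonoidHom.ker_eq_bot_iff l).mp e
      refine hnotN (eq_top_iff.mpr fun g _ => Subgroup.centralizer_le_normalizer _
        (Subgroup.mem_centralizer_iff.mpr fun y _ => hinj (by rw [map_mul, map_mul, mul_comm])))
    have hPK := hPle K inferInstance hKbot
    have hnorm1 : classInner (fun g => (l g : ℂ) * (χ₀ : G → ℂ) g)
        (fun g => (l g : ℂ) * (χ₀ : G → ℂ) g) = 1 := by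
      rw [← Char.classInner_irr_self χ₀.2]
      simp only [classInner]
      congr 1
      refine Finset.sum_congr rfl fun g _ => ?_
      have : (l g : ℂ) * conj (l g : ℂ) = 1 := by
        rw [Complex.mul_conj, Complex.normSq_eq_norm_sq,
          Complex.norm_eq_one_of_pow_eq_one (n := orderOf g)
            (by rw [← Units.val_pow_eq_pow_val, ← map_pow, pow_orderOf_eq_one, map_one, Units.val_one])
            (orderOf_pos g).ne']
        simp
      rw [map_mul, mul_mul_mul_comm, this, one_mul]
    have heq : ∀ g, (l g : ℂ) * (χ₀ : G → ℂ) g = (χ₀ : G → ℂ) g := by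
      have hirr := Char.isIrr_of_norm_one
        (Char.isCharacter_mul (Char.isCharacter_monoidHom l) (Char.isCharacter_of_isIrr χ₀.2)) hnorm1
      have h1 := huni ⟨_, hirr⟩ (by
        rw [← hχ₀]
        simp [charDegree])
      exact congrFun (congrArg Subtype.val h1)
    haveI : Fintype K := Fintype.ofFinite K
    have hnormK : classInner (fun n : K => (χ₀ : G → ℂ) n) (fun n : K => (χ₀ : G → ℂ) n) =
        (K.index : ℂ) := by
      have h1 := Char.classInner_irr_self χ₀.2
      simp only [classInner] at h1 ⊢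
      have hsum : ∑ n : K, (χ₀ : G → ℂ) n * conj ((χ₀ : G → ℂ) n) =
          ∑ g : G, (χ₀ : G → ℂ) g * conj ((χ₀ : G → ℂ) g) := by
        rw [← Finset.sum_subset (Finset.subset_univ ((Finset.univ : Finset G).filter (· ∈ K)))
          (fun g _ hg => by
            have hgK : l g ≠ 1 := fun e => hg (Finset.mem_filter.mpr ⟨Finset.mem_univ _, e⟩)
            have h2 := heq g
            have : ((l g : ℂ) - 1) * (χ₀ : G → ℂ) g = 0 := by linear_combination h2
            rw [(mul_eq_zero.mp this).resolve_left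
              (sub_ne_zero.mpr fun e => hgK (Units.ext e)), zero_mul])]
        refine (Finset.sum_bij (fun (n : K) _ => (n : G)) (fun n _ => by simp) (fun a _ b _ e =>
          Subtype.ext e) (fun g hg => ⟨⟨g, (Finset.mem_filter.mp hg).2⟩, Finset.mem_univ _, rfl⟩)
          fun _ _ => rfl)
      rw [hsum, ← K.card_mul_index, Nat.cast_mul, mul_inv] at *
      have hi : (K.index : ℂ) ≠ 0 := Nat.cast_ne_zero.mpr Subgroup.index_ne_zero_of_finite
      field_simp at h1 ⊢
      linear_combination h1
    have hidx : K.index ∣ Nat.card E := by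
      have hsup : K ⊔ N = ⊤ := by rw [sup_comm]; exact Sylow.normalizer_sup_eq_top' P hPK
      have h1 : K.index = K.relIndex N := by
        rw [← Subgroup.relIndex_sup_left, hsup, Subgroup.relIndex_top_right]
      have h2 : K.index ∣ p * Nat.card E := by rw [h1, ← hNc]; exact Subgroup.index_dvd_card _
      refine (Nat.Coprime.dvd_of_dvd_mul_left ?_ h2)
      refine (Nat.coprime_comm.mp (hp.coprime_iff_not_dvd.mpr fun hd => hsq ?_))
      rw [← K.card_mul_index, pow_two]
      exact Nat.mul_dvd_mul (hP ▸ Subgroup.card_dvd_of_le hPK) hd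
    have hilt : K.index < p := lt_of_le_of_lt (Nat.le_of_dvd Nat.card_pos hidx) helt
    obtain ⟨θ, hθ⟩ := Char.exists_constituent K (Char.isCharacter_of_isIrr χ₀.2)
      (Char.irr_degree_ne_zero χ₀.2)
    obtain ⟨m, hm⟩ := Char.exists_nat_classInner
      (Char.isCharacter_restrict K (Char.isCharacter_of_isIrr χ₀.2)) (Char.isCharacter_of_isIrr θ.2)
    have hcl := Char.clifford K χ₀.2 θ.2 hθ
    have hdeq := Char.clifford_degree K χ₀.2 θ.2 hθ
    obtain ⟨d, hd, -, -⟩ := Char.exists_degree_dvd_card θ.2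
    rw [hm, hd, hdeg] at hdeq
    set o := (Char.orbit K (θ : K → ℂ)).card with ho
    have hdeq' : p = m * (o * d) := by exact_mod_cast hdeq
    have hn2 : (K.index : ℂ) = (m : ℂ) * m * o := by
      rw [← hnormK, hcl, hm, Char.classInner_smul_left, Char.classInner_smul_right,
        Char.classInner_sum_right]
      rw [Finset.sum_congr rfl fun φ hφ => ?_]
      · rw [Finset.sum_const, nsmul_eq_mul, mul_one, map_natCast, ho]; ring
      · obtain ⟨g, rfl⟩ := (Char.mem_orbit K).mp hφ
        rw [Char.classInner_sum_left, Finset.sum_eq_single (Char.conjBy K (θ : K → ℂ) g)]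
        · exact Char.classInner_irr_self (Char.isIrrCharacter_conjBy K θ.2 g)
        · intro ψ hψ hne
          obtain ⟨g', rfl⟩ := (Char.mem_orbit K).mp hψ
          exact Char.classInner_irr_ne (Char.isIrrCharacter_conjBy K θ.2 g')
            (Char.isIrrCharacter_conjBy K θ.2 g) hne
        · intro h
          exact absurd ((Char.mem_orbit K).mpr ⟨g, rfl⟩) h
    have hn2' : K.index = m * m * o := by exact_mod_cast hn2
    have hm1 : m = 1 := ((Nat.dvd_prime hp).mp ⟨_, hdeq'⟩).resolve_right fun e => by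
      rw [e] at hn2'
      have h0 : 0 < K.index := Nat.pos_of_ne_zero Subgroup.index_ne_zero_of_finite
      have : p * p ∣ K.index := ⟨o, hn2'⟩
      have := Nat.le_of_dvd h0 this
      have := Nat.le_mul_of_pos_left p hp.pos
      omega
    rw [hm1, one_mul, one_mul] at hn2'
    have ho1 : o = 1 := ((Nat.dvd_prime hp).mp ⟨d, by rw [hdeq', hm1, one_mul]⟩).resolve_right
      fun e => by omega
    exact hKtop (Subgroup.index_eq_one.mp (hn2'.trans ho1))
  haveI : Nontrivial G := Finite.one_lt_card_iff_nontrivial.mp (by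
    have := Nat.mul_pos hp.pos hp.pos
    omega)
  have hsimple : IsSimpleGroup G := by
    refine ⟨fun K hK => ?_⟩
    by_cases hb : K = ⊥
    · exact Or.inl hb
    right
    haveI := hK
    have hPK := hPle K hK hb
    exact BrauerReynolds.eq_top_of_commutators hperf (N := N)
      (by rw [sup_comm]; exact Sylow.normalizer_sup_eq_top' P hPK)
      fun x hx y hy => hPK (BrauerReynolds.commutator_mem_of_normalizer P hP hCP hx hy)
  have hncyc : ¬ IsCyclic G := fun hc => by
    letI := hc.commGroup
    refine hnotN (eq_top_iff.mpr fun g _ => Subgroup.centralizer_le_normalizer _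
      (Subgroup.mem_centralizer_iff.mpr fun y _ => mul_comm y g))
  refine ⟨hp5, hsimple, hncyc, hP, hCP, hcyc, htwo, hedvd, hPE, hPE', hNE, ?_, hdvd, ?_,
    ⟨χ₀, hχ₀, huni⟩⟩
  · intro g x hx hx1 hgx
    by_contra hg
    exact hx1 (conj_eq_one_iff.mp (Subgroup.mem_bot.mp (hTI g hg ▸
      Subgroup.mem_inf.mpr ⟨hgx, Subgroup.mem_map_of_mem _ hx⟩)))
  · obtain ⟨a⟩ : Nonempty α := Fintype.card_pos_iff.mp (by omega)
    exact ⟨MulAction.stabilizer G a, by
      rw [MulAction.index_stabilizer_of_transitive, Nat.card_eq_fintype_card, hα]⟩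

end Perm

end CfsgLib.PrimeDegTI
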